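import Groth.Agent.Lib.RInvol.Basic
import Mathlib.RingTheory.Unramified.Field
import Mathlib.RingTheory.TensorProduct.Quotient
import Mathlib.RingTheory.Artinian.Module
import Mathlib.RingTheory.Artinian.Ring
import Mathlib.RingTheory.LocalRing.Quotient
import Mathlib.RingTheory.Localization.BaseChange

set_option autoImplicit false

/-!
# The branch locus of an involution
-/

universe u v w

open scoped TensorProduct
open IsLocalRing Polynomial

namespace GrothLib.RInvol

section Quad

variable {S : Type u} {R : Type v} [CommRing S] [CommRing R] [Algebra S R] [IsLocalRing S]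

/-- The special fibre of a quadratic etale algebra is reduced of dimension two. -/
theorem fibre_of_isQuadEtale (hq : RInv.IsQuadEtale S R) :
    IsReduced (R ⧸ (maximalIdeal S).map (algebraMap S R)) ∧
      Module.Finite (S ⧸ maximalIdeal S) (R ⧸ (maximalIdeal S).map (algebraMap S R)) ∧
      Algebra.FormallyUnramified (S ⧸ maximalIdeal S) (R ⧸ (maximalIdeal S).map (algebraMap S R)) ∧
      Module.finrank (S ⧸ maximalIdeal S) (R ⧸ (maximalIdeal S).map (algebraMap S R)) = 2 := by
  obtain ⟨hfin, hproj, hunr, hrk⟩ := hq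
  let := Ideal.Quotient.field (maximalIdeal S)
  let k := S ⧸ maximalIdeal S
  let B := R ⧸ (maximalIdeal S).map (algebraMap S R)
  have hfB : Module.Finite k B := Module.Finite.of_restrictScalars_finite S k B
  have : Algebra.FormallyUnramified S B :=
    Algebra.FormallyUnramified.of_surjective (Ideal.Quotient.mkₐ S _) Ideal.Quotient.mk_surjective
  have hu : Algebra.FormallyUnramified k B := Algebra.FormallyUnramified.of_restrictScalars S k B
  have : Algebra.EssFiniteType k B := inferInstance
  refine ⟨Algebra.FormallyUnramified.isReduced_of_field k B, hfB, hu, ?_⟩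
  have : Module.Free S R := Module.free_of_flat_of_isLocalRing
  have h1 := IsLocalRing.finrank_quotient_map (R := S) (S := R)
  rw [h1, ← hrk ⟨maximalIdeal S, inferInstance⟩, Module.rankAtStalk_eq_finrank_of_free]
  rfl

/-- The Jacobson radical of a quadratic etale algebra over a local ring. -/
theorem jacobson_of_isQuadEtale (hq : RInv.IsQuadEtale S R) :
    Ring.jacobson R = (maximalIdeal S).map (algebraMap S R) := by
  obtain ⟨hred, hfin, -, -⟩ := fibre_of_isQuadEtale hq
  obtain ⟨hfinR, -⟩ := hq
  let := Ideal.Quotient.field (maximalIdeal S)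
  have hart : IsArtinianRing (R ⧸ (maximalIdeal S).map (algebraMap S R)) :=
    IsArtinianRing.of_finite (S ⧸ maximalIdeal S) _
  rw [Ring.jacobson_eq_sInf_isMaximal]
  refine le_antisymm (fun x hx => ?_) (le_sInf fun M hM => ?_)
  · rw [← Ideal.Quotient.eq_zero_iff_mem]
    have hmem : Ideal.Quotient.mk ((maximalIdeal S).map (algebraMap S R)) x ∈
        nilradical (R ⧸ (maximalIdeal S).map (algebraMap S R)) := by
      rw [nilradical_eq_sInf, Submodule.mem_sInf]
      intro (P : Ideal (R ⧸ (maximalIdeal S).map (algebraMap S R))) hP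
      replace hP : Ideal.IsPrime P := hP
      have hmax : P.IsMaximal := IsArtinianRing.isMaximal_of_isPrime P
      exact (Submodule.mem_sInf.1 hx) (P.comap (Ideal.Quotient.mk _))
        (Ideal.comap_isMaximal_of_surjective _ Ideal.Quotient.mk_surjective)
    rwa [nilradical_eq_zero, Ideal.zero_eq_bot, Ideal.mem_bot] at hmem
  · have hMm : M.comap (algebraMap S R) = maximalIdeal S := by
      have := hM.out
      have : M.IsMaximal := hM
      exact IsLocalRing.eq_maximalIdeal (Ideal.isMaximal_comap_of_isIntegral_of_isMaximal M)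
    exact Ideal.map_le_iff_le_comap.2 hMm.ge

end Quad

variable {S : Type u} {R : Type v} [CommRing S] [CommRing R] [Algebra S R] {lam : R ≃ₐ[S] R}

namespace IsInvol

variable (h : IsInvol lam)
include h

theorem not_isQuadEtale_of_forall [IsLocalRing S] (hall : ∀ r, lam r - r ∈ Ring.jacobson R) :
    ¬ RInv.IsQuadEtale S R := by
  intro hq
  have hjac := jacobson_of_isQuadEtale hq
  obtain ⟨hred, hfin, hu, hdim⟩ := fibre_of_isQuadEtale hq
  have := h.isLocalRing_of_forall hall
  rw [IsLocalRing.ringJacobson_eq_maximalIdeal] at hjac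
  let := Ideal.Quotient.field (maximalIdeal S)
  let k := S ⧸ maximalIdeal S
  let B := R ⧸ (maximalIdeal S).map (algebraMap S R)
  have hmax : ((maximalIdeal S).map (algebraMap S R)).IsMaximal := hjac ▸ maximalIdeal.isMaximal R
  let := Ideal.Quotient.field ((maximalIdeal S).map (algebraMap S R))
  have hsep : Algebra.IsSeparable k B := Algebra.FormallyUnramified.isSeparable k B
  have hsurj : Function.Surjective (algebraMap k B) := by
    intro y
    obtain ⟨x, rfl⟩ := Ideal.Quotient.mk_surjective y
    obtain ⟨s, hs⟩ := h.exists_add x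
    obtain ⟨t, ht⟩ := h.exists_mul x
    have hlx : Ideal.Quotient.mk _ (lam x) = (Ideal.Quotient.mk ((maximalIdeal S).map (algebraMap S R)) x) := by
      rw [Ideal.Quotient.eq, ← hjac, ← IsLocalRing.ringJacobson_eq_maximalIdeal]; exact hall x
    set y : B := Ideal.Quotient.mk _ x with hy
    have hs' : algebraMap k B (Ideal.Quotient.mk _ s) = y + y := by
      show Ideal.Quotient.mk _ (algebraMap S R s) = _
      rw [hs, map_add, hlx]
    have ht' : algebraMap k B (Ideal.Quotient.mk _ t) = y * y := by
      show Ideal.Quotient.mk _ (algebraMap S R t) = _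
      rw [ht, map_mul, hlx]
    set q : k[X] := X ^ 2 + (C (-(Ideal.Quotient.mk _ s)) * X + C (Ideal.Quotient.mk _ t)) with hqdef
    have hqm : q.Monic := Polynomial.monic_X_pow_add (Polynomial.degree_linear_le.trans_lt (by norm_num))
    have hq0 : aeval y q = 0 := by simp [q, hs', ht']; ring
    have hq1 : aeval y (derivative q) = 0 := by simp [q, hs']; ring
    have hint : IsIntegral k y := ⟨q, hqm, by rwa [← aeval_def]⟩
    obtain ⟨c, hc⟩ := minpoly.dvd k y hq0
    by_contra hcon
    push Not at hcon
    have hdeg2 : 2 ≤ (minpoly k y).natDegree := by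
      by_contra hlt
      push Not at hlt
      have h1 : (minpoly k y).natDegree = 1 := by have := minpoly.natDegree_pos hint; omega
      obtain ⟨z, hz⟩ := minpoly.natDegree_eq_one_iff.1 h1
      exact hcon z hz
    have hqd : q.natDegree = 2 := by rw [hqdef]; compute_degree!
    have hq2 : q = minpoly k y := by
      have hle : q.natDegree ≤ (minpoly k y).natDegree := hqd ▸ hdeg2
      exact Polynomial.eq_of_monic_of_dvd_of_natDegree_le (minpoly.monic hint) hqm (minpoly.dvd k y hq0) hle
    exact (Algebra.IsSeparable.isSeparable k y).aeval_derivative_ne_zero (minpoly.aeval k y) (hq2 ▸ hq1)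
  have h2 : Module.finrank k B = 1 := by
    rw [← (LinearEquiv.ofBijective (Algebra.linearMap k B) ⟨(algebraMap k B).injective, hsurj⟩).finrank_eq,
      Module.finrank_self]
  exact absurd (h2.symm.trans hdim) (by norm_num)

theorem isQuadEtale_iff [IsLocalRing S] : RInv.IsQuadEtale S R ↔ ∃ r, IsUnit (r - lam r) := by
  refine ⟨fun hq => ?_, fun ⟨r, hr⟩ => h.isQuadEtale_of_isUnit_sub hr⟩
  by_contra hcon
  push Not at hcon
  refine h.not_isQuadEtale_of_forall (fun r => ?_) hq
  by_contra hr
  exact hcon r (h.isUnit_sub_of_notMem hr)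

/-- The square of `r - lam r` lies in the base. -/
theorem exists_sq (r : R) : ∃ d : S, algebraMap S R d = (r - lam r) * (r - lam r) :=
  h.fixed _ (by rw [map_mul, map_sub, h.invol]; ring)

theorem exists_over (p : PrimeSpectrum S) : ∃ q : PrimeSpectrum R, q.asIdeal.comap (algebraMap S R) = p.asIdeal := by
  have := h.isIntegral
  obtain ⟨Q, -, hQ, hQ'⟩ := Ideal.exists_ideal_over_prime_of_isIntegral p.asIdeal (⊥ : Ideal R)
    (fun x hx => by rw [Ideal.mem_comap, Ideal.mem_bot, map_eq_zero_iff _ h.inj] at hx; exact hx ▸ zero_mem _)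
  exact ⟨⟨Q, hQ⟩, hQ'⟩

/-- A prime of the base is a branch point iff the involution is trivial at the primes above it. -/
theorem branch_iff (p : PrimeSpectrum S) :
    ¬ RInv.IsQuadEtale (Localization.AtPrime p.asIdeal) (Localization.AtPrime p.asIdeal ⊗[S] R) ↔
      ∀ q : PrimeSpectrum R, q.asIdeal.comap (algebraMap S R) = p.asIdeal → ∀ r, lam r - r ∈ q.asIdeal := by
  let Sp := Localization.AtPrime p.asIdeal
  let Rp := Sp ⊗[S] R
  have hp := h.baseChange Sp (Or.inl inferInstance)
  set μ := Algebra.TensorProduct.congr (AlgEquiv.refl : Sp ≃ₐ[Sp] Sp) lam with hμdef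
  constructor
  · intro hnq q hqp r
    by_contra hr
    apply hnq
    obtain ⟨d, hd⟩ := h.exists_sq r
    have hdp : d ∉ p.asIdeal := fun hdp => by
      rw [← hqp, Ideal.mem_comap, hd] at hdp
      exact hr (by simpa using neg_mem ((q.2.mem_or_mem hdp).elim id id))
    refine hp.isQuadEtale_of_isUnit_sub (x := (1 : Sp) ⊗ₜ[S] r) ?_
    refine isUnit_of_mul_isUnit_left (y := ((1 : Sp) ⊗ₜ[S] (r - lam r) : Rp)) ?_
    rw [show ((1 : Sp) ⊗ₜ[S] r : Rp) - μ ((1 : Sp) ⊗ₜ[S] r) = (1 : Sp) ⊗ₜ[S] (r - lam r) from by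
        rw [TensorProduct.tmul_sub]; rfl,
      Algebra.TensorProduct.tmul_mul_tmul, one_mul, ← hd]
    rw [show ((1 : Sp) ⊗ₜ[S] algebraMap S R d : Rp) = algebraMap Sp Rp (algebraMap S Sp d) from by
      show _ = algebraMap S Sp d ⊗ₜ[S] (1 : R)
      rw [Algebra.algebraMap_eq_smul_one d, TensorProduct.tmul_smul, TensorProduct.smul_tmul', ← Algebra.algebraMap_eq_smul_one]]
    exact (IsLocalization.map_units Sp (⟨d, hdp⟩ : p.asIdeal.primeCompl)).map _
  · intro hall
    refine hp.not_isQuadEtale_of_forall fun z => ?_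
    rw [hp.mem_jacobson_iff]
    intro M hM
    induction z using TensorProduct.induction_on with
    | zero => simp
    | add a b ha hb => rw [map_add, add_sub_add_comm]; exact M.add_mem ha hb
    | tmul c r =>
      rw [show μ (c ⊗ₜ[S] r) - c ⊗ₜ[S] r = (c ⊗ₜ[S] (1 : R)) * ((1 : Sp) ⊗ₜ[S] (lam r - r)) from by
        rw [Algebra.TensorProduct.tmul_mul_tmul, mul_one, one_mul, TensorProduct.tmul_sub]; rfl]
      refine M.mul_mem_left _ ?_
      let q : PrimeSpectrum R := ⟨M.comap (Algebra.TensorProduct.includeRight : R →ₐ[S] Rp), Ideal.comap_isPrime _ _⟩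
      refine hall q ?_ r
      have h1 := hp.comap_eq_maximalIdeal M
      show (M.comap (Algebra.TensorProduct.includeRight : R →ₐ[S] Rp)).comap (algebraMap S R) = p.asIdeal
      conv_rhs => rw [← Localization.AtPrime.comap_maximalIdeal (I := p.asIdeal), ← h1]
      ext s
      simp only [Ideal.mem_comap]
      rw [show (Algebra.TensorProduct.includeRight : R →ₐ[S] Rp) (algebraMap S R s) = algebraMap S Rp s from
        AlgHom.commutes _ s]
      rfl

theorem branch_iff' (p : PrimeSpectrum S) :
    ¬ RInv.IsQuadEtale (Localization.AtPrime p.asIdeal) (Localization.AtPrime p.asIdeal ⊗[S] R) ↔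
      ∃ q : PrimeSpectrum R, q.asIdeal.comap (algebraMap S R) = p.asIdeal ∧
        (∀ q' : PrimeSpectrum R, q'.asIdeal.comap (algebraMap S R) = p.asIdeal → q' = q) ∧
        ∀ r : R, lam r - r ∈ q.asIdeal := by
  rw [h.branch_iff p]
  constructor
  · intro hall
    obtain ⟨q, hq⟩ := h.exists_over p
    refine ⟨q, hq, fun q' hq' => PrimeSpectrum.ext ?_, hall q hq⟩
    rcases h.eq_or_eq_comap q'.2 q.2 (hq'.trans hq.symm) with h1 | h1
    · exact h1
    · refine h1.trans (Ideal.ext fun x => ?_)
      have := hall q hq x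
      simp only [Ideal.mem_comap, RingHom.coe_coe]
      exact ⟨fun hx => by simpa using q.asIdeal.sub_mem hx this, fun hx => by simpa using q.asIdeal.add_mem this hx⟩
  · rintro ⟨q, -, huniq, hall⟩ q' hq' r
    rw [huniq q' hq']
    exact hall r

/-- Hilbert 90. -/
theorem exists_inv_mul_of_mul_eq_one [IsLocalRing S] (hq : RInv.IsQuadEtale S R) (r : Rˣ) (hr : lam r * r = 1) :
    ∃ a : Rˣ, (r : R) = (a⁻¹ : Rˣ) * lam a := by
  obtain ⟨x, hx⟩ := h.isQuadEtale_iff.1 hq
  have := h.nontrivial
  obtain ⟨M, hM⟩ := Ideal.exists_maximal R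
  let f : R → R := fun c => c + lam (r * c)
  have hlf : ∀ c, lam (f c) = r * f c := fun c => by
    show lam (c + lam (r * c)) = r * (c + lam (r * c))
    rw [map_add, h.invol, map_mul, mul_add, ← mul_assoc, mul_comm (r : R) (lam r), hr]; ring
  obtain ⟨c, hc⟩ : ∃ c, f c ∉ M := by
    by_contra hcon
    push Not at hcon
    have h1 : f x - x * f 1 ∈ M := M.sub_mem (hcon x) (M.mul_mem_left _ (hcon 1))
    have h2 : f x - x * f 1 = lam (r : R) * (lam x - x) := by simp only [f, map_mul, map_one, mul_one]; ring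
    rw [h2] at h1
    rcases hM.isPrime.mem_or_mem h1 with h3 | h3
    · exact hM.ne_top (Ideal.eq_top_of_isUnit_mem _ h3 ((r.isUnit).map lam))
    · exact hM.ne_top (Ideal.eq_top_of_isUnit_mem _ (by simpa using neg_mem h3) hx)
  have hu : IsUnit (f c) := by
    by_contra hu
    obtain ⟨M', hM', hmem⟩ := exists_max_ideal_of_mem_nonunits hu
    rcases h.maximal_eq_or_eq hM' hM with h1 | h1
    · exact hc (h1 ▸ hmem)
    · rw [h1, Ideal.mem_comap, RingHom.coe_coe, hlf] at hmem
      exact (hM.isPrime.mem_or_mem hmem).elim (fun hh => hM.ne_top (Ideal.eq_top_of_isUnit_mem _ hh r.isUnit)) hc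
  refine ⟨hu.unit, ?_⟩
  rw [IsUnit.unit_spec, hlf, mul_comm (r : R) (f c), ← mul_assoc, IsUnit.val_inv_mul, one_mul]

end IsInvol

end GrothLib.RInvol
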