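import Groth.Agent.Lib.RInvol.Skew
import Groth.Agent.Lib.RInvol.Branch
import Mathlib.LinearAlgebra.Matrix.Permutation

set_option autoImplicit false

/-!
# Forms over a ring with local fixed ring
-/

universe u v w

open Matrix

namespace GrothLib.RInvol.Forms

theorem Cong.map {R : Type u} {R' : Type v} [CommRing R] [CommRing R'] {lam : R →+* R} {lam' : R' →+* R'}
    (φ : R →+* R') (hφ : ∀ r, φ (lam r) = lam' (φ r)) {ι : Type} [Fintype ι] [DecidableEq ι] {w w' : Matrix ι ι R}
    (h : Cong lam w w') : Cong lam' (w.map φ) (w'.map φ) := by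
  obtain ⟨g, hg, rfl⟩ := h
  refine ⟨g.map φ, hg.map φ.mapMatrix, ?_⟩
  rw [Matrix.map_mul, Matrix.map_mul]
  congr 1
  ext i j
  simp [hφ]

theorem cong_perm {R : Type u} [CommRing R] {lam : R →+* R} {ι : Type} [Fintype ι] [DecidableEq ι]
    (σ : ι ≃ ι) (w : Matrix ι ι R) : Cong lam w (Matrix.reindex σ σ w) := by
  refine ⟨(1 : Matrix ι ι R).submatrix σ.symm id, ?_, ?_⟩
  · refine isUnit_iff_exists.2 ⟨(1 : Matrix ι ι R).submatrix id σ.symm, ?_, ?_⟩
    · rw [← Matrix.submatrix_mul _ _ _ id _ Function.bijective_id, one_mul, Matrix.submatrix_one_equiv]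
    · rw [← Matrix.submatrix_mul _ _ _ σ.symm _ σ.symm.bijective, one_mul, Matrix.submatrix_id_id]
  · rw [st_submatrix, st_one]
    conv_lhs => rw [← Matrix.submatrix_id_id w]
    rw [← Matrix.submatrix_mul _ _ _ id _ Function.bijective_id, one_mul,
      ← Matrix.submatrix_mul _ _ _ id _ Function.bijective_id, mul_one]
    rfl

end GrothLib.RInvol.Forms

namespace GrothLib.RInvol.IsInvol

open Forms

variable {B : Type u} {A : Type v} [CommRing B] [CommRing A] [Algebra B A] {lam : A ≃ₐ[B] A}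

theorem isPairMax [IsLocalRing B] (h : IsInvol lam) {M : Ideal A} (hM : M.IsMaximal) :
    IsPairMax (lam : A →+* A) M := ⟨hM, fun _ hM' => h.maximal_eq_or_eq hM' hM⟩

theorem diagonalizable [IsLocalRing B] (h : IsInvol lam) {ι : Type} [Fintype ι] [DecidableEq ι] {ε : A}
    (hε : lam ε * ε = 1) (w : Matrix ι ι A) (hw : IsForm (lam : A →+* A) ε w) (hu : IsUnit w)
    (hcase : (∃ a : A, lam a - a ∉ Ring.jacobson A) ∨ ε + 1 ∉ Ring.jacobson A ∨ Odd (Fintype.card ι)) :
    Diagonalizable (lam : A →+* A) w := by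
  have key : ∀ x : A, x ∉ Ring.jacobson A → ∃ M : Ideal A, M.IsMaximal ∧ x ∉ M := fun x hx => by
    rw [h.mem_jacobson_iff] at hx; push Not at hx; exact hx
  by_cases hall : ∀ a, lam a - a ∈ Ring.jacobson A
  swap
  · push Not at hall
    obtain ⟨a, ha⟩ := hall
    obtain ⟨M, hM, haM⟩ := key _ ha
    exact diagonalizable_of_gen h.invol hε (h.isPairMax hM) (Or.inl ⟨a, haM⟩) w hw hu
  by_cases hε1 : ε + 1 ∈ Ring.jacobson A
  swap
  · obtain ⟨M, hM, hxM⟩ := key _ hε1
    exact diagonalizable_of_gen h.invol hε (h.isPairMax hM) (Or.inr (by rwa [add_comm])) w hw hu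
  have ho : Odd (Fintype.card ι) := (hcase.resolve_left fun ⟨a, ha⟩ => ha (hall a)).resolve_left (not_not.2 hε1)
  have := h.isLocalRing_of_forall hall
  rw [IsLocalRing.ringJacobson_eq_maximalIdeal] at hall hε1
  exact diagonalizable_of_odd h.invol hε hall (by rwa [add_comm]) w ho hw hu

end GrothLib.RInvol.IsInvol
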