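import Groth.Agent.Lib.RInvol.Branch
import Groth.Agent.Lib.Hensel.Local
import Groth.Agent.Lib.Hensel.Pair
import Mathlib.RingTheory.Spectrum.Prime.RingHom
import Mathlib.Topology.Homeomorph.Lemmas

set_option autoImplicit false

/-!
# The branch locus is closed
-/

universe u v w

open scoped TensorProduct
open IsLocalRing

namespace GrothLib.RInvol

variable {S : Type u} {R : Type v} [CommRing S] [CommRing R] [Algebra S R] {lam : R ≃ₐ[S] R}

namespace IsInvol

variable (h : IsInvol lam)
include h

theorem branch_iff_sq (p : PrimeSpectrum S) :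
    ¬ RInv.IsQuadEtale (Localization.AtPrime p.asIdeal) (Localization.AtPrime p.asIdeal ⊗[S] R) ↔
      ∀ (r : R) (d : S), algebraMap S R d = (r - lam r) * (r - lam r) → d ∈ p.asIdeal := by
  rw [h.branch_iff p]
  constructor
  · intro hall r d hd
    obtain ⟨q, hq⟩ := h.exists_over p
    rw [← hq, Ideal.mem_comap, hd]
    exact q.asIdeal.mul_mem_right _ (by simpa using neg_mem (hall q hq r))
  · intro hall q hq r
    obtain ⟨d, hd⟩ := h.exists_sq r
    have := hall r d hd
    rw [← hq, Ideal.mem_comap, hd] at this
    simpa using neg_mem ((q.2.mem_or_mem this).elim id id)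

theorem isQuadEtale_of_isUnit_algebraMap (T : Type w) [CommRing T] [Algebra S T] [Module.Flat S T] {r : R} {d : S}
    (hd : algebraMap S R d = (r - lam r) * (r - lam r)) (hu : IsUnit (algebraMap S T d)) :
    RInv.IsQuadEtale T (T ⊗[S] R) := by
  have hp := h.baseChange T (Or.inl inferInstance)
  refine hp.isQuadEtale_of_isUnit_sub (x := (1 : T) ⊗ₜ[S] r) ?_
  refine isUnit_of_mul_isUnit_left (y := ((1 : T) ⊗ₜ[S] (r - lam r))) ?_
  rw [show ((1 : T) ⊗ₜ[S] r : T ⊗[S] R) - Algebra.TensorProduct.congr (AlgEquiv.refl : T ≃ₐ[T] T) lam ((1 : T) ⊗ₜ[S] r) =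
      (1 : T) ⊗ₜ[S] (r - lam r) from by rw [TensorProduct.tmul_sub]; rfl,
    Algebra.TensorProduct.tmul_mul_tmul, one_mul, ← hd]
  rw [show ((1 : T) ⊗ₜ[S] algebraMap S R d : T ⊗[S] R) = algebraMap T (T ⊗[S] R) (algebraMap S T d) from by
    show _ = algebraMap S T d ⊗ₜ[S] (1 : R)
    rw [Algebra.algebraMap_eq_smul_one d, TensorProduct.tmul_smul, TensorProduct.smul_tmul', ← Algebra.algebraMap_eq_smul_one]]
  exact hu.map _

theorem exists_isQuadEtale_away (p : PrimeSpectrum S)
    (hp : RInv.IsQuadEtale (Localization.AtPrime p.asIdeal) (Localization.AtPrime p.asIdeal ⊗[S] R)) :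
    ∃ s : S, s ∉ p.asIdeal ∧ RInv.IsQuadEtale (Localization.Away s) (Localization.Away s ⊗[S] R) := by
  have := (h.branch_iff_sq p).not.1 (not_not.2 hp)
  push Not at this
  obtain ⟨r, d, hd, hdp⟩ := this
  exact ⟨d, hdp, h.isQuadEtale_of_isUnit_algebraMap (Localization.Away d) hd (IsLocalization.Away.algebraMap_isUnit d)⟩

theorem isClosed_branch :
    IsClosed {p : PrimeSpectrum S | ¬ RInv.IsQuadEtale (Localization.AtPrime p.asIdeal) (Localization.AtPrime p.asIdeal ⊗[S] R)} := by
  have : {p : PrimeSpectrum S | ¬ RInv.IsQuadEtale (Localization.AtPrime p.asIdeal) (Localization.AtPrime p.asIdeal ⊗[S] R)} =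
      PrimeSpectrum.zeroLocus {d : S | ∃ r : R, algebraMap S R d = (r - lam r) * (r - lam r)} := by
    ext p
    rw [Set.mem_ofPred_eq, h.branch_iff_sq p, PrimeSpectrum.mem_zeroLocus]
    exact ⟨fun hh d ⟨r, hr⟩ => hh r d hr, fun hh r d hd => hh ⟨r, hd⟩⟩
  rw [this]
  exact PrimeSpectrum.isClosed_zeroLocus _

theorem mem_branch_of_le {W : Set (PrimeSpectrum S)}
    (hW : W = {p : PrimeSpectrum S | ¬ RInv.IsQuadEtale (Localization.AtPrime p.asIdeal) (Localization.AtPrime p.asIdeal ⊗[S] R)})
    {q : PrimeSpectrum R} (hq : (PrimeSpectrum.vanishingIdeal W).map (algebraMap S R) ≤ q.asIdeal) :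
    PrimeSpectrum.comap (algebraMap S R) q ∈ W := by
  have hc : IsClosed W := hW ▸ h.isClosed_branch
  rw [← hc.closure_eq, ← PrimeSpectrum.zeroLocus_vanishingIdeal_eq_closure, PrimeSpectrum.mem_zeroLocus]
  exact fun s hs => hq (Ideal.mem_map_of_mem _ hs)

theorem sub_mem_radical {W : Set (PrimeSpectrum S)}
    (hW : W = {p : PrimeSpectrum S | ¬ RInv.IsQuadEtale (Localization.AtPrime p.asIdeal) (Localization.AtPrime p.asIdeal ⊗[S] R)})
    (r : R) : lam r - r ∈ ((PrimeSpectrum.vanishingIdeal W).map (algebraMap S R)).radical := by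
  rw [Ideal.radical_eq_sInf, Submodule.mem_sInf]
  rintro Q ⟨hle, hQ⟩
  have hmem := h.mem_branch_of_le hW (q := ⟨Q, hQ⟩) hle
  rw [hW] at hmem
  exact (h.branch_iff _).1 hmem ⟨Q, hQ⟩ rfl r

theorem isHomeomorph_branch {W : Set (PrimeSpectrum S)}
    (hW : W = {p : PrimeSpectrum S | ¬ RInv.IsQuadEtale (Localization.AtPrime p.asIdeal) (Localization.AtPrime p.asIdeal ⊗[S] R)})
    (J : Ideal R) (hJ : J = ((PrimeSpectrum.vanishingIdeal W).map (algebraMap S R)).radical)
    (hIJ : PrimeSpectrum.vanishingIdeal W ≤ J.comap (algebraMap S R)) :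
    IsHomeomorph (PrimeSpectrum.comap (Ideal.quotientMap J (algebraMap S R) hIJ)) ∧
      (IsUnit (2 : S) → Function.Bijective (Ideal.quotientMap J (algebraMap S R) hIJ)) := by
  set I := PrimeSpectrum.vanishingIdeal W
  set φ := Ideal.quotientMap J (algebraMap S R) hIJ
  have hint : φ.IsIntegral := by
    have h0 : ((Ideal.Quotient.mk J).comp (algebraMap S R)).IsIntegral :=
      RingHom.IsIntegral.trans _ _ (algebraMap_isIntegral_iff.2 h.isIntegral)
        (RingHom.isIntegral_of_surjective _ Ideal.Quotient.mk_surjective)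
    refine RingHom.IsIntegral.tower_top (Ideal.Quotient.mk I) φ ?_
    rwa [Ideal.quotientMap_comp_mk]
  have hcomap : ∀ (q : PrimeSpectrum R) (hq : J ≤ q.asIdeal),
      PrimeSpectrum.comap (algebraMap S R) q ∈ W := fun q hq =>
    h.mem_branch_of_le hW ((hJ ▸ Ideal.le_radical).trans hq)
  have hinj : Function.Injective (PrimeSpectrum.comap φ) := by
    intro a b hab
    let qa : PrimeSpectrum R := PrimeSpectrum.comap (Ideal.Quotient.mk J) a
    let qb : PrimeSpectrum R := PrimeSpectrum.comap (Ideal.Quotient.mk J) b
    have hqa : J ≤ qa.asIdeal := fun x hx => by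
      show Ideal.Quotient.mk J x ∈ a.asIdeal
      rw [Ideal.Quotient.eq_zero_iff_mem.2 hx]; exact zero_mem _
    have heq : PrimeSpectrum.comap (algebraMap S R) qa = PrimeSpectrum.comap (algebraMap S R) qb := by
      have := congrArg (PrimeSpectrum.comap (Ideal.Quotient.mk I)) hab
      rw [← PrimeSpectrum.comap_comp_apply, ← PrimeSpectrum.comap_comp_apply, Ideal.quotientMap_comp_mk,
        PrimeSpectrum.comap_comp_apply, PrimeSpectrum.comap_comp_apply] at this
      exact this
    have hmem : PrimeSpectrum.comap (algebraMap S R) qa ∈ W := hcomap qa hqa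
    rw [hW] at hmem
    obtain ⟨q, -, huniq, -⟩ := (h.branch_iff' _).1 hmem
    apply PrimeSpectrum.comap_injective_of_surjective _ Ideal.Quotient.mk_surjective
    show qa = qb
    rw [huniq qa rfl, huniq qb (congrArg PrimeSpectrum.asIdeal heq).symm]
  have hsurj : Function.Surjective (PrimeSpectrum.comap φ) := by
    intro p
    let p' : PrimeSpectrum S := PrimeSpectrum.comap (Ideal.Quotient.mk I) p
    have hp' : p' ∈ W := by
      have hc : IsClosed W := hW ▸ h.isClosed_branch
      rw [← hc.closure_eq, ← PrimeSpectrum.zeroLocus_vanishingIdeal_eq_closure, PrimeSpectrum.mem_zeroLocus]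
      intro s hs
      show Ideal.Quotient.mk I s ∈ p.asIdeal
      rw [Ideal.Quotient.eq_zero_iff_mem.2 hs]; exact zero_mem _
    obtain ⟨q, hq⟩ := h.exists_over p'
    have hqJ : J ≤ q.asIdeal := by
      rw [hJ, q.2.isRadical.radical_le_iff, Ideal.map_le_iff_le_comap, hq]
      intro s hs
      show Ideal.Quotient.mk I s ∈ p.asIdeal
      rw [Ideal.Quotient.eq_zero_iff_mem.2 hs]; exact zero_mem _
    refine ⟨⟨q.asIdeal.map (Ideal.Quotient.mk J), ?_⟩, ?_⟩
    · exact Ideal.map_isPrime_of_surjective Ideal.Quotient.mk_surjective (by rwa [Ideal.mk_ker])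
    · apply PrimeSpectrum.comap_injective_of_surjective _ Ideal.Quotient.mk_surjective
      rw [← PrimeSpectrum.comap_comp_apply, Ideal.quotientMap_comp_mk]
      refine PrimeSpectrum.ext ?_
      show ((q.asIdeal.map (Ideal.Quotient.mk J))).comap ((Ideal.Quotient.mk J).comp (algebraMap S R)) = p'.asIdeal
      rw [← Ideal.comap_comap, Ideal.comap_map_of_surjective _ Ideal.Quotient.mk_surjective, ← hq]
      congr 1
      refine sup_eq_left.2 fun x hx => hqJ ?_
      rw [Ideal.mem_comap, Ideal.mem_bot] at hx
      exact Ideal.Quotient.eq_zero_iff_mem.1 hx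
  refine ⟨isHomeomorph_iff_continuous_isClosedMap_bijective.2
    ⟨(PrimeSpectrum.continuous_comap φ), PrimeSpectrum.isClosedMap_comap_of_isIntegral φ hint, hinj, hsurj⟩, fun h2 => ?_⟩
  refine ⟨(injective_iff_map_eq_zero φ).2 fun z hz => ?_, fun z => ?_⟩
  · obtain ⟨s, rfl⟩ := Ideal.Quotient.mk_surjective z
    rw [Ideal.quotientMap_mk, Ideal.Quotient.eq_zero_iff_mem] at hz
    rw [Ideal.Quotient.eq_zero_iff_mem, PrimeSpectrum.mem_vanishingIdeal]
    intro p hp
    obtain ⟨q, hq⟩ := h.exists_over p
    rw [← hq, Ideal.mem_comap]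
    have hle : J ≤ q.asIdeal := by
      rw [hJ, q.2.isRadical.radical_le_iff, Ideal.map_le_iff_le_comap, hq]
      exact fun t ht => (PrimeSpectrum.mem_vanishingIdeal W t).1 ht p hp
    exact hle hz
  · obtain ⟨r, rfl⟩ := Ideal.Quotient.mk_surjective z
    obtain ⟨s, hs⟩ := h.exists_add r
    obtain ⟨i, hi⟩ := h2.exists_left_inv
    refine ⟨Ideal.Quotient.mk I (i * s), ?_⟩
    rw [Ideal.quotientMap_mk, Ideal.Quotient.eq, map_mul, hs]
    have h1 : algebraMap S R i * 2 = 1 := by rw [← map_ofNat (algebraMap S R) 2, ← map_mul, hi, map_one]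
    have : algebraMap S R i * (r + lam r) - r = algebraMap S R i * (lam r - r) := by linear_combination r * h1
    rw [this, hJ]
    exact Ideal.mul_mem_left _ _ (h.sub_mem_radical hW r)

/-- Over a strictly henselian fixed ring: the two cases. -/
theorem henselian_cases [HenselianLocalRing S] [IsSepClosed (ResidueField S)] :
    (∃ (_ : IsLocalRing R), HenselianLocalRing R ∧ IsSepClosed (ResidueField R) ∧ ∀ r, lam r - r ∈ maximalIdeal R) ∨
      ∃ e : R, IsIdempotentElem e ∧ lam e = 1 - e := by
  have := h.isIntegral
  have := h.nontrivial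
  by_cases hall : ∀ r, lam r - r ∈ Ring.jacobson R
  · left
    have hloc := h.isLocalRing_of_forall hall
    refine ⟨hloc, ?_⟩
    have hmap : (maximalIdeal S).map (algebraMap S R) ≤ maximalIdeal R :=
      Ideal.map_le_iff_le_comap.2 (h.comap_eq_maximalIdeal (maximalIdeal R)).ge
    have hrad : ((maximalIdeal S).map (algebraMap S R)).radical = maximalIdeal R := by
      refine le_antisymm ((maximalIdeal.isMaximal R).isPrime.isRadical.radical_le_iff.2 hmap) ?_
      rw [Ideal.radical_eq_sInf]
      refine le_sInf fun P hP => ?_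
      obtain ⟨hle, hPp⟩ := hP
      have hmax : (P.comap (algebraMap S R)).IsMaximal := by
        have h1 : maximalIdeal S ≤ P.comap (algebraMap S R) := Ideal.map_le_iff_le_comap.1 hle
        rw [← (maximalIdeal.isMaximal S).eq_of_le (Ideal.comap_ne_top _ hPp.ne_top) h1]
        exact maximalIdeal.isMaximal S
      have := Ideal.isMaximal_of_isIntegral_of_isMaximal_comap P hmax
      exact (IsLocalRing.eq_maximalIdeal this).ge
    have hB₁ : HenselianRing R ((maximalIdeal S).map (algebraMap S R)) := GrothLib.Hensel.henselianRing_of_isIntegral _ R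
    have hH : HenselianRing R (maximalIdeal R) :=
      hrad ▸ (GrothLib.Hensel.henselianRing_iff_of_radical_eq (Ideal.radical_idem _).symm).mp hB₁
    refine ⟨GrothLib.Hensel.henselianLocalRing_of_henselianRing hH, ?_, fun r => ?_⟩
    · let : Algebra (ResidueField S) (ResidueField R) :=
        (Ideal.Quotient.lift _ (algebraMap S (ResidueField R)) fun a ha => by
          rw [IsScalarTower.algebraMap_apply S R (ResidueField R)]
          exact Ideal.Quotient.eq_zero_iff_mem.2 (hmap (Ideal.mem_map_of_mem _ ha))).toAlgebra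
      have : IsScalarTower S (ResidueField S) (ResidueField R) := IsScalarTower.of_algebraMap_eq fun _ => rfl
      have : Algebra.IsIntegral S (ResidueField R) :=
        Algebra.IsIntegral.of_surjective (IsScalarTower.toAlgHom S R (ResidueField R)) Ideal.Quotient.mk_surjective
      have : Algebra.IsIntegral (ResidueField S) (ResidueField R) := Algebra.IsIntegral.tower_top S
      refine IsSepClosed.of_exists_root _ fun p hp hirr hsep => ?_
      obtain ⟨x, hx⟩ := IsAlgClosed.exists_root (p.map (algebraMap (ResidueField R) (AlgebraicClosure (ResidueField R))))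
        (by rw [Polynomial.degree_map]; exact (Polynomial.degree_pos_of_irreducible hirr).ne')
      let L := AlgebraicClosure (ResidueField R)
      have : Algebra.IsAlgebraic (ResidueField S) L := Algebra.IsAlgebraic.trans _ (ResidueField R) L
      have : IsPurelyInseparable (ResidueField S) L := inferInstance
      have : IsPurelyInseparable (ResidueField R) L := IsPurelyInseparable.tower_top (ResidueField S) _ L
      have hxs : IsSeparable (ResidueField R) x := hsep.of_dvd (minpoly.dvd _ x (by
        rwa [Polynomial.aeval_def, ← Polynomial.eval_map]))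
      obtain ⟨y, rfl⟩ := IsPurelyInseparable.inseparable (ResidueField R) x hxs
      exact ⟨y, (algebraMap _ L).injective (by rw [map_zero, ← Polynomial.eval_map_apply]; exact hx)⟩
    · exact IsLocalRing.ringJacobson_eq_maximalIdeal (R := R) ▸ hall r
  · right
    push Not at hall
    obtain ⟨r, hr⟩ := hall
    have hr' := hr
    rw [h.mem_jacobson_iff] at hr'
    push Not at hr'
    obtain ⟨M, hM, hrM⟩ := hr'
    -- the two maximal ideals differ because the residue field has no separable extension
    have hx := h.isUnit_sub_of_notMem hr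
    obtain ⟨s, hs⟩ := h.exists_add r
    obtain ⟨t, ht⟩ := h.exists_mul r
    obtain ⟨e0, he0⟩ : ∃ c : S, (Polynomial.X ^ 2 + (Polynomial.C (-s) * Polynomial.X + Polynomial.C t)).IsRoot c := by
      let p : Polynomial S := Polynomial.X ^ 2 + (Polynomial.C (-s) * Polynomial.X + Polynomial.C t)
      have hpm : p.Monic := Polynomial.monic_X_pow_add (Polynomial.degree_linear_le.trans_lt (by norm_num))
      obtain ⟨d, hd⟩ := h.exists_sq r
      have hdu : IsUnit d := by
        by_contra hu
        have hmem : algebraMap S R d ∈ M := by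
          have : d ∈ M.comap (algebraMap S R) := by
            have := hM; rw [h.comap_eq_maximalIdeal M]; exact hu
          exact this
        rw [hd] at hmem
        exact hrM (by simpa using neg_mem ((hM.isPrime.mem_or_mem hmem).elim id id))
      have hds : d = s * s - 4 * t := h.inj (by rw [hd, map_sub, map_mul, map_mul, map_ofNat, hs, ht]; ring)
      have hsep : (p.map (residue S)).Separable := by
        refine (Polynomial.separable_def' _).2 ?_
        obtain ⟨i, hi⟩ := (hdu.map (residue S)).exists_left_inv
        rw [hds] at hi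
        refine ⟨Polynomial.C (-4 * i), Polynomial.C i * (2 * Polynomial.X - Polynomial.C (residue S s)), ?_⟩
        simp only [p, Polynomial.map_add, Polynomial.map_pow, Polynomial.map_X, Polynomial.map_mul, Polynomial.map_C,
          map_neg, Polynomial.map_neg, Polynomial.derivative_neg, Polynomial.derivative_add, Polynomial.derivative_X_sq, Polynomial.derivative_mul, Polynomial.derivative_C,
          Polynomial.derivative_X]
        simp only [map_sub, map_mul, map_ofNat] at hi
        have hi' := congrArg (Polynomial.C (R := ResidueField S)) hi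
        simp only [map_sub, map_mul, map_ofNat, map_one] at hi'
        simp only [map_mul, map_neg, map_ofNat]
        linear_combination hi'
      obtain ⟨a₀, ha₀⟩ := IsSepClosed.exists_root (p.map (residue S)) (by
        rw [hpm.degree_map]
        have : p.natDegree = 2 := by simp only [p]; compute_degree!
        rw [Polynomial.degree_eq_natDegree hpm.ne_zero, this]
        norm_num) hsep
      have hH : ∀ p : Polynomial S, p.Monic → ∀ b : ResidueField S, Polynomial.aeval b p = 0 →
          Polynomial.aeval b (Polynomial.derivative p) ≠ 0 → ∃ a : S, p.IsRoot a ∧ residue S a = b :=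
        ((HenselianLocalRing.TFAE S).out 0 1).1 ‹_›
      obtain ⟨c, hc, -⟩ := hH p hpm a₀ (by rw [Polynomial.aeval_def, ← Polynomial.eval_map]; exact ha₀) (by
        rw [Polynomial.aeval_def, ← Polynomial.eval_map, ← Polynomial.derivative_map]
        intro hzero
        obtain ⟨u, w, huw⟩ := (Polynomial.separable_def' _).1 hsep
        have := congrArg (Polynomial.eval a₀) huw
        simp only [Polynomial.eval_add, Polynomial.eval_mul, Polynomial.eval_one] at this
        rw [show Polynomial.eval a₀ (Polynomial.map (residue S) p) = 0 from ha₀,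
          show Polynomial.eval a₀ (Polynomial.derivative (Polynomial.map (residue S) p)) = 0 from hzero] at this
        simp at this)
      exact ⟨c, hc⟩
    have hroot : (r - algebraMap S R e0) * (lam r - algebraMap S R e0) = 0 := by
      have := congrArg (algebraMap S R) he0
      simp only [Polynomial.eval_add, Polynomial.eval_pow, Polynomial.eval_X, Polynomial.eval_mul, Polynomial.eval_C, Polynomial.eval_neg,
        map_add, map_pow, map_mul, map_neg, hs, ht, map_zero] at this
      linear_combination this
    obtain ⟨i, hi⟩ := hx.exists_left_inv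
    refine ⟨i * (r - algebraMap S R e0), ?_, ?_⟩
    · show _ * _ = _
      linear_combination (i * i) * hroot + (i * (r - algebraMap S R e0)) * hi
    · have hlami : lam i = -i := by
        have h1 := congrArg lam hi
        rw [map_mul, map_sub, h.invol, map_one] at h1
        linear_combination lam i * hi.symm + (-i) * h1
      rw [map_mul, map_sub, AlgEquiv.commutes, hlami]
      linear_combination hi

end IsInvol

end GrothLib.RInvol
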