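import Mathlib.LinearAlgebra.Matrix.NonsingularInverse
import Mathlib.RingTheory.Ideal.Maps
import Mathlib.RingTheory.LocalRing.Basic
import Mathlib.LinearAlgebra.Matrix.Transvection
import Mathlib.Algebra.Group.Units.Equiv
import Mathlib.LinearAlgebra.Matrix.SchurComplement

set_option autoImplicit false

/-!
# Congruence of hermitian matrices over a ring with involution
-/

universe u v

open Matrix

namespace GrothLib.RInvol.Forms

variable {R : Type u} [CommRing R] (lam : R →+* R)

/-- The conjugate transpose. -/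
def st {ι κ : Type*} (M : Matrix ι κ R) : Matrix κ ι R := (M.map lam).transpose

@[simp] theorem st_apply {ι κ : Type*} (M : Matrix ι κ R) (i : κ) (j : ι) : st lam M i j = lam (M j i) := rfl

theorem st_mul {ι κ μ : Type*} [Fintype κ] (M : Matrix ι κ R) (N : Matrix κ μ R) :
    st lam (M * N) = st lam N * st lam M := by
  ext i j
  simp only [st_apply, Matrix.mul_apply, map_sum, map_mul]
  exact Finset.sum_congr rfl fun k _ => mul_comm _ _

theorem st_one {ι : Type*} [DecidableEq ι] : st lam (1 : Matrix ι ι R) = 1 := by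
  ext i j
  by_cases h : i = j
  · subst h; simp
  · simp [Matrix.one_apply_ne h, Matrix.one_apply_ne (Ne.symm h)]

theorem st_smul {ι κ : Type*} (c : R) (M : Matrix ι κ R) : st lam (c • M) = lam c • st lam M := by
  ext i j; simp

theorem st_submatrix {ι κ α β : Type*} (M : Matrix ι κ R) (f : α → ι) (g : β → κ) :
    st lam (M.submatrix f g) = (st lam M).submatrix g f := rfl

theorem isUnit_st {ι : Type*} [Fintype ι] [DecidableEq ι] {M : Matrix ι ι R} (h : IsUnit M) : IsUnit (st lam M) := by
  obtain ⟨N, hMN, hNM⟩ := isUnit_iff_exists.1 h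
  exact isUnit_iff_exists.2 ⟨st lam N, by rw [← st_mul, hNM, st_one], by rw [← st_mul, hMN, st_one]⟩

section Cong

variable {ι κ : Type} [Fintype ι] [DecidableEq ι] [Fintype κ] [DecidableEq κ]

/-- Congruence of forms. -/
def Cong (w w' : Matrix ι ι R) : Prop := ∃ g : Matrix ι ι R, IsUnit g ∧ g * w * st lam g = w'

/-- `ε`-hermitian. -/
def IsForm (ε : R) (w : Matrix ι ι R) : Prop := ε • st lam w = w

variable {lam}

theorem Cong.refl (w : Matrix ι ι R) : Cong lam w w := ⟨1, isUnit_one, by rw [st_one, one_mul, mul_one]⟩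

theorem Cong.trans {w w' w'' : Matrix ι ι R} (h : Cong lam w w') (h' : Cong lam w' w'') : Cong lam w w'' := by
  obtain ⟨g, hg, rfl⟩ := h
  obtain ⟨g', hg', rfl⟩ := h'
  exact ⟨g' * g, hg'.mul hg, by rw [st_mul]; simp [Matrix.mul_assoc]⟩

theorem Cong.symm {w w' : Matrix ι ι R} (h : Cong lam w w') : Cong lam w' w := by
  obtain ⟨g, hg, rfl⟩ := h
  obtain ⟨N, hgN, hNg⟩ := isUnit_iff_exists.1 hg
  refine ⟨N, isUnit_iff_exists.2 ⟨g, hNg, hgN⟩, ?_⟩
  rw [← Matrix.mul_assoc, ← Matrix.mul_assoc, hNg, one_mul, Matrix.mul_assoc, ← st_mul, hNg, st_one, mul_one]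

theorem Cong.isUnit {w w' : Matrix ι ι R} (h : Cong lam w w') (hw : IsUnit w) : IsUnit w' := by
  obtain ⟨g, hg, rfl⟩ := h
  exact (hg.mul hw).mul (isUnit_st lam hg)

theorem Cong.isForm (hlam : ∀ r, lam (lam r) = r) {ε : R} {w w' : Matrix ι ι R} (h : Cong lam w w')
    (hw : IsForm lam ε w) : IsForm lam ε w' := by
  obtain ⟨g, -, rfl⟩ := h
  have hst : st lam (st lam g) = g := by ext i j; simp [hlam]
  show ε • st lam (g * w * st lam g) = _
  rw [st_mul, st_mul, hst, ← Matrix.mul_smul, ← Matrix.smul_mul, show ε • st lam w = w from hw, Matrix.mul_assoc]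

theorem Cong.reindex (e : ι ≃ κ) {w w' : Matrix ι ι R} (h : Cong lam w w') :
    Cong lam (Matrix.reindex e e w) (Matrix.reindex e e w') := by
  obtain ⟨g, hg, rfl⟩ := h
  refine ⟨Matrix.reindex e e g, hg.map (Matrix.reindexAlgEquiv R R e), ?_⟩
  simp only [Matrix.reindex_apply, st_submatrix, Matrix.submatrix_mul_equiv]

theorem Cong.fromBlocks {a a' : Matrix ι ι R} {d d' : Matrix κ κ R} (h : Cong lam a a') (h' : Cong lam d d') :
    Cong lam (Matrix.fromBlocks a 0 0 d) (Matrix.fromBlocks a' 0 0 d') := by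
  obtain ⟨g, hg, rfl⟩ := h
  obtain ⟨g', hg', rfl⟩ := h'
  have hst : st lam (Matrix.fromBlocks g 0 0 g') = Matrix.fromBlocks (st lam g) 0 0 (st lam g') := by
    ext (i | i) (j | j) <;> simp
  refine ⟨Matrix.fromBlocks g 0 0 g', Matrix.isUnit_fromBlocks_zero₁₂.2 ⟨hg, hg'⟩, ?_⟩
  rw [hst, Matrix.fromBlocks_multiply, Matrix.fromBlocks_multiply]
  simp

theorem IsForm.apply {ε : R} {w : Matrix ι ι R} (hw : IsForm lam ε w) (i j : ι) : ε * lam (w j i) = w i j :=
  congrFun (congrFun hw i) j

/-- Splitting off an invertible block. -/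
theorem split (hlam : ∀ r, lam (lam r) = r) {ε : R} (hε : lam ε * ε = 1)
    {a : Matrix ι ι R} {b : Matrix ι κ R} {c : Matrix κ ι R} {d : Matrix κ κ R}
    (hw : IsForm lam ε (Matrix.fromBlocks a b c d)) (hu : IsUnit (Matrix.fromBlocks a b c d)) {ai : Matrix ι ι R}
    (h1 : a * ai = 1) (h2 : ai * a = 1) :
    Cong lam (Matrix.fromBlocks a b c d) (Matrix.fromBlocks a 0 0 (d - c * ai * b)) ∧
      IsForm lam ε (d - c * ai * b) ∧ IsUnit (d - c * ai * b) := by
  have hst : st lam (Matrix.fromBlocks a b c d) = Matrix.fromBlocks (st lam a) (st lam c) (st lam b) (st lam d) := by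
    ext (i | i) (j | j) <;> simp
  have hw' := hw
  rw [IsForm, hst, Matrix.fromBlocks_smul, Matrix.fromBlocks_inj] at hw'
  obtain ⟨ha, hb, hc, hd⟩ := hw'
  have hai : st lam ai = ε • ai := by
    have hsa : st lam a = lam ε • a := by conv_rhs => rw [← ha, smul_smul, hε, one_smul]
    have h3 := congrArg (st lam) h1
    rw [st_mul, st_one, hsa, Matrix.mul_smul, ← Matrix.smul_mul] at h3
    calc st lam ai = (ε * lam ε) • st lam ai * (a * ai) := by rw [h1, mul_one, mul_comm ε, hε, one_smul]
      _ = ε • ((lam ε • st lam ai * a) * ai) := by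
        rw [Matrix.smul_mul, Matrix.smul_mul, Matrix.smul_mul, smul_smul, Matrix.mul_assoc]
      _ = ε • ai := by rw [h3, one_mul]
  have hcong : Cong lam (Matrix.fromBlocks a b c d) (Matrix.fromBlocks a 0 0 (d - c * ai * b)) := by
    refine ⟨Matrix.fromBlocks 1 0 (-(c * ai)) 1, Matrix.isUnit_fromBlocks_zero₁₂.2 ⟨isUnit_one, isUnit_one⟩, ?_⟩
    have hg : st lam (Matrix.fromBlocks 1 0 (-(c * ai)) 1) =
        Matrix.fromBlocks (1 : Matrix ι ι R) (-(st lam ai * st lam c)) 0 (1 : Matrix κ κ R) := by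
      have h1' : st lam (1 : Matrix ι ι R) = 1 := st_one lam
      have h2' : st lam (1 : Matrix κ κ R) = 1 := st_one lam
      rw [← st_mul]
      ext (i | i) (j | j)
      · simpa using congrFun (congrFun h1' i) j
      · simp
      · simp
      · simpa using congrFun (congrFun h2' i) j
    rw [hg, Matrix.fromBlocks_multiply, Matrix.fromBlocks_multiply]
    have e1 : a * -(st lam ai * st lam c) + b = 0 := by
      rw [hai, Matrix.mul_neg, ← Matrix.mul_assoc, Matrix.mul_smul, h1, Matrix.smul_mul, Matrix.one_mul, hb, neg_add_cancel]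
    have e2 : -(c * ai) * a + c = 0 := by rw [Matrix.neg_mul, Matrix.mul_assoc, h2, Matrix.mul_one, neg_add_cancel]
    congr 1
    · simp
    · simpa using e1
    · simpa using e2
    · simp only [Matrix.one_mul, Matrix.mul_one, e2, Matrix.zero_mul, zero_add]
      rw [Matrix.neg_mul]
      exact neg_add_eq_sub _ _
  refine ⟨hcong, ?_, (Matrix.isUnit_fromBlocks_zero₁₂.1 (hcong.isUnit hu)).2⟩
  show ε • st lam (d - c * ai * b) = _
  have hb' : st lam b = lam ε • c := by conv_rhs => rw [← hc, smul_smul, hε, one_smul]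
  rw [show st lam (d - c * ai * b) = st lam d - st lam (c * ai * b) from by ext i j; simp, smul_sub, hd,
    st_mul, st_mul, hai, hb']
  congr 1
  rw [← hb]
  simp only [Matrix.smul_mul, Matrix.mul_smul, smul_smul, Matrix.mul_assoc]
  congr 1
  rw [mul_comm ε (lam ε), hε, mul_one]

end Cong

variable {lam}

/-- Congruent to a diagonal matrix. -/
def Diagonalizable (lam : R →+* R) {ι : Type} [Fintype ι] [DecidableEq ι] (w : Matrix ι ι R) : Prop :=
  ∃ d : ι → R, Cong lam w (Matrix.diagonal d)

section Predicate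

attribute [-instance] Fintype.subtypeEq Fintype.subtypeEq'

variable {ι : Type} [Fintype ι] [DecidableEq ι]

theorem submatrix_sumCompl (w : Matrix ι ι R) (p : ι → Prop) [DecidablePred p] :
    Matrix.reindex (Equiv.sumCompl p).symm (Equiv.sumCompl p).symm w =
      Matrix.fromBlocks (w.submatrix Subtype.val Subtype.val) (w.submatrix Subtype.val Subtype.val)
        (w.submatrix Subtype.val Subtype.val) (w.submatrix Subtype.val Subtype.val) := by
  ext (i | i) (j | j) <;> rfl

theorem Cong.of_reindex {κ : Type} [Fintype κ] [DecidableEq κ] (e : ι ≃ κ) {w w' : Matrix ι ι R}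
    (h : Cong lam (Matrix.reindex e e w) (Matrix.reindex e e w')) : Cong lam w w' := by
  simpa using h.reindex e.symm

/-- Splitting along a predicate with invertible block. -/
theorem split_pred (hlam : ∀ r, lam (lam r) = r) {ε : R} (hε : lam ε * ε = 1) (w : Matrix ι ι R)
    (hw : IsForm lam ε w) (hu : IsUnit w) (p : ι → Prop) [DecidablePred p]
    (ai : Matrix {x // p x} {x // p x} R)
    (h1 : (w.submatrix Subtype.val Subtype.val : Matrix {x // p x} {x // p x} R) * ai = 1)
    (h2 : ai * (w.submatrix Subtype.val Subtype.val : Matrix {x // p x} {x // p x} R) = 1) :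
    let d : Matrix {x // ¬ p x} {x // ¬ p x} R :=
      (w.submatrix Subtype.val Subtype.val : Matrix {x // ¬ p x} {x // ¬ p x} R) -
        (w.submatrix Subtype.val Subtype.val : Matrix {x // ¬ p x} {x // p x} R) * ai *
          (w.submatrix Subtype.val Subtype.val : Matrix {x // p x} {x // ¬ p x} R)
    IsForm lam ε d ∧ IsUnit d ∧ Cong lam (Matrix.reindex (Equiv.sumCompl p).symm (Equiv.sumCompl p).symm w)
      (Matrix.fromBlocks (w.submatrix Subtype.val Subtype.val) 0 0 d) := by
  set e := (Equiv.sumCompl p).symm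
  have hw1 : IsForm lam ε (Matrix.reindex e e w) := by
    show ε • st lam (Matrix.reindex e e w) = _
    rw [Matrix.reindex_apply, st_submatrix]
    conv_rhs => rw [← show ε • st lam w = w from hw]
    rfl
  have hu1 : IsUnit (Matrix.reindex e e w) := hu.map (Matrix.reindexAlgEquiv R R e)
  rw [submatrix_sumCompl] at hw1 hu1 ⊢
  obtain ⟨h, h', h''⟩ := split hlam hε hw1 hu1 h1 h2
  exact ⟨h', h'', h⟩

theorem diagonalizable_of_split (hlam : ∀ r, lam (lam r) = r) {ε : R} (hε : lam ε * ε = 1) (w : Matrix ι ι R)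
    (hw : IsForm lam ε w) (hu : IsUnit w) (i : ι) (hi : IsUnit (w i i))
    (hrest : ∀ d : Matrix {x // ¬ x = i} {x // ¬ x = i} R, IsForm lam ε d → IsUnit d →
      (∀ k l, d k l = w k l - w k i * ↑(hi.unit⁻¹) * w i l) → Diagonalizable lam d) :
    Diagonalizable lam w := by
  have : Unique {x // x = i} := ⟨⟨⟨i, rfl⟩⟩, fun x => Subtype.ext x.2⟩
  set a : Matrix {x // x = i} {x // x = i} R := w.submatrix Subtype.val Subtype.val with hadef
  have ha : a = Matrix.diagonal fun _ => w i i := by
    ext k l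
    rw [Subsingleton.elim l k, Matrix.diagonal_apply_eq]
    simp [hadef, k.2]
  obtain ⟨hf, hud, hc⟩ := split_pred hlam hε w hw hu (· = i) (Matrix.diagonal fun _ => ↑(hi.unit⁻¹))
    (by rw [← hadef, ha, Matrix.diagonal_mul_diagonal]; simp)
    (by rw [← hadef, ha, Matrix.diagonal_mul_diagonal]; simp)
  obtain ⟨dd, hdd⟩ := hrest _ hf hud fun k l => by
    simp only [Matrix.sub_apply, Matrix.submatrix_apply, Matrix.mul_apply, Fintype.sum_unique, Matrix.diagonal_apply_eq,
      show ((default : {x // x = i}) : ι) = i from (default : {x // x = i}).2]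
  set e := (Equiv.sumCompl fun x => x = i).symm
  refine ⟨Sum.elim (fun _ => w i i) dd ∘ e, Cong.of_reindex e ?_⟩
  refine hc.trans ?_
  rw [show Matrix.reindex e e (Matrix.diagonal (Sum.elim (fun _ => w i i) dd ∘ e)) =
      Matrix.fromBlocks (Matrix.diagonal fun _ => w i i) 0 0 (Matrix.diagonal dd) from by
    rw [Matrix.fromBlocks_diagonal, Matrix.reindex_apply, Matrix.submatrix_diagonal_equiv]
    congr 1; funext x; simp]
  rw [← hadef, ha]
  exact (Cong.refl _).fromBlocks hdd

end Predicate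

/-- The value of a transvected form. -/
theorem transvection_congr {ι : Type} [Fintype ι] [DecidableEq ι] (w : Matrix ι ι R) {i j : ι} (hij : i ≠ j)
    (d : R) :
    ∃ w', Cong lam w w' ∧ w' i i = w i i + d * w j i + (w i j + d * w j j) * lam d ∧
      (∀ k, k ≠ i → w' k i = w k i + w k j * lam d) ∧ (∀ k, k ≠ i → w' i k = w i k + d * w j k) ∧
      ∀ k l, k ≠ i → l ≠ i → w' k l = w k l := by
  refine ⟨Matrix.transvection i j d * w * st lam (Matrix.transvection i j d),
    ⟨_, (Matrix.isUnit_iff_isUnit_det _).2 (by rw [Matrix.det_transvection_of_ne _ _ hij]; exact isUnit_one), rfl⟩, ?_⟩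
  have hst : st lam (Matrix.transvection i j d) = Matrix.transvection j i (lam d) := by
    rw [st, Matrix.transvection, Matrix.transvection, Matrix.map_add _ (map_add lam), Matrix.transpose_add,
      Matrix.map_single, Matrix.transpose_single, Matrix.map_one _ (map_zero lam) (map_one lam), Matrix.transpose_one]
  rw [hst]
  refine ⟨?_, fun k hk => ?_, fun k hk => ?_, fun k l hk hl => ?_⟩ <;>
    simp [*, Matrix.mul_assoc, hij, Ne.symm hij] <;> ring

/-- A maximal ideal meeting every orbit of maximal ideals. -/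
def IsPairMax (lam : R →+* R) (M : Ideal R) : Prop :=
  M.IsMaximal ∧ ∀ M' : Ideal R, M'.IsMaximal → M' = M ∨ M' = M.comap lam

theorem isUnit_of_form {M : Ideal R} (hM : IsPairMax lam M) {ε v : R} (hv : ε * lam v = v)
    (h : v ∉ M) : IsUnit v := by
  by_contra hu
  obtain ⟨M', hM', hmem⟩ := exists_max_ideal_of_mem_nonunits hu
  rcases hM.2 M' hM' with rfl | rfl
  · exact h hmem
  · exact h (hv ▸ M.mul_mem_left _ hmem)

theorem exists_row_notMem {ι : Type} [Fintype ι] [DecidableEq ι] {M : Ideal R} (hM : M.IsMaximal) (w : Matrix ι ι R)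
    (hu : IsUnit w) (i : ι) : ∃ j, w i j ∉ M := by
  by_contra h
  push Not at h
  obtain ⟨N, hN, -⟩ := isUnit_iff_exists.1 hu
  refine hM.ne_top ((Ideal.eq_top_iff_one M).2 ?_)
  have := congrFun (congrFun hN i) i
  rw [Matrix.one_apply_eq, Matrix.mul_apply] at this
  exact this ▸ M.sum_mem fun j _ => M.mul_mem_right _ (h j)

/-- When the involution or the sign is non-trivial at `M`, some congruent form has a unit diagonal entry. -/
theorem exists_unit_diag {ι : Type} [Fintype ι] [DecidableEq ι] [Nonempty ι] (hlam : ∀ r, lam (lam r) = r) {ε : R}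
    (hε : lam ε * ε = 1) {M : Ideal R} (hM : IsPairMax lam M) (hgen : (∃ a, lam a - a ∉ M) ∨ 1 + ε ∉ M)
    (w : Matrix ι ι R) (hw : IsForm lam ε w) (hu : IsUnit w) :
    ∃ w', Cong lam w w' ∧ ∃ i, IsUnit (w' i i) := by
  by_cases hd : ∃ i, w i i ∉ M
  · obtain ⟨i, hi⟩ := hd
    exact ⟨w, Cong.refl w, i, isUnit_of_form hM (hw.apply i i) hi⟩
  push Not at hd
  let i := Classical.arbitrary ι
  obtain ⟨j, hj⟩ := exists_row_notMem hM.1 w hu i
  have hij : i ≠ j := fun h => hj (h ▸ hd i)
  suffices h : ∃ d, d * w j i + w i j * lam d ∉ M by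
    obtain ⟨d, hd'⟩ := h
    obtain ⟨w', hc, hii, -⟩ := transvection_congr (lam := lam) w hij d
    refine ⟨w', hc, i, isUnit_of_form hM ((hc.isForm hlam hw).apply i i) fun hmem => hd' ?_⟩
    rw [hii] at hmem
    have : d * w j i + w i j * lam d =
        (w i i + d * w j i + (w i j + d * w j j) * lam d) - (w i i + d * w j j * lam d) := by ring
    rw [this]
    exact M.sub_mem hmem (M.add_mem (hd i) (M.mul_mem_right _ (M.mul_mem_left _ (hd j))))
  by_contra hall
  push Not at hall
  have hdiff : ∀ a, w i j * (lam a - a) ∈ M := fun a => by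
    have h1 := M.sub_mem (hall a) (M.mul_mem_left a (hall 1))
    rw [map_one] at h1
    convert h1 using 1; ring
  rcases hgen with ⟨a, ha⟩ | hε1
  · exact (hM.1.isPrime.mem_or_mem (hdiff a)).elim hj ha
  · by_cases htriv : ∃ a, lam a - a ∉ M
    · obtain ⟨a, ha⟩ := htriv
      exact (hM.1.isPrime.mem_or_mem (hdiff a)).elim hj ha
    push Not at htriv
    have h1 := hall 1
    rw [map_one, one_mul, mul_one, ← hw.apply j i] at h1
    have h2 : (1 + ε) * w i j ∈ M := by
      have h3 := M.sub_mem h1 (M.mul_mem_left ε (htriv (w i j)))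
      convert h3 using 1; ring
    exact (hM.1.isPrime.mem_or_mem h2).elim hε1 hj

end GrothLib.RInvol.Forms
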