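import Groth.Prelude.Def_W4c2azumayainvolQEt
import Groth.Agent.Lib.AzMod.EtaleGen
import Mathlib.RingTheory.Unramified.Field
import Mathlib.RingTheory.IntegralClosure.Algebra.Ideal
import Mathlib.RingTheory.Flat.Basic
import Mathlib.RingTheory.Spectrum.Prime.Basic
import Mathlib.RingTheory.Localization.AtPrime.Basic
import Mathlib.FieldTheory.Separable

set_option autoImplicit false

/-!
# Rings with an involution over their fixed ring
-/

universe u v w

open scoped TensorProduct

namespace GrothLib.RInvol

/-- An involution of `R` with fixed ring `S`. -/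
structure IsInvol {S : Type u} {R : Type v} [CommRing S] [CommRing R] [Algebra S R] (lam : R ≃ₐ[S] R) : Prop where
  invol : ∀ r, lam (lam r) = r
  inj : Function.Injective (algebraMap S R)
  fixed : ∀ r, lam r = r → r ∈ Set.range (algebraMap S R)

variable {S : Type u} {R : Type v} [CommRing S] [CommRing R] [Algebra S R]

/-- A ring automorphism fixing the base is an algebra automorphism. -/
def algEquivOfFixedRing (lam : R ≃+* R) (hS : RInv.IsFixedRing S R lam) : R ≃ₐ[S] R :=
  AlgEquiv.ofRingEquiv (f := lam) fun s => (hS.2 _).2 ⟨s, rfl⟩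

theorem isInvol_of_fixedRing (lam : R ≃+* R) (hlam : Function.Involutive lam) (hS : RInv.IsFixedRing S R lam) :
    IsInvol (algEquivOfFixedRing lam hS) :=
  ⟨hlam, hS.1, fun r h => (hS.2 r).1 h⟩

theorem isInvol_of_fixedRing' (lam : R ≃ₐ[S] R) (hlam : ∀ r, lam (lam r) = r)
    (hS : RInv.IsFixedRing S R lam.toRingEquiv) : IsInvol lam :=
  ⟨hlam, hS.1, fun r h => (hS.2 r).1 h⟩

variable {lam : R ≃ₐ[S] R}

namespace IsInvol

variable (h : IsInvol lam)
include h

theorem exists_add (r : R) : ∃ s : S, algebraMap S R s = r + lam r :=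
  h.fixed _ (by rw [map_add, h.invol, add_comm])

theorem exists_mul (r : R) : ∃ s : S, algebraMap S R s = r * lam r :=
  h.fixed _ (by rw [map_mul, h.invol, mul_comm])

theorem isFixedRing : RInv.IsFixedRing S R lam.toRingEquiv :=
  ⟨h.inj, fun r => ⟨h.fixed r, by rintro ⟨s, rfl⟩; exact lam.commutes s⟩⟩

theorem isIntegral : Algebra.IsIntegral S R := by
  refine ⟨fun r => ?_⟩
  obtain ⟨s, hs⟩ := h.exists_add r
  obtain ⟨t, ht⟩ := h.exists_mul r
  refine ⟨Polynomial.X ^ 2 + (Polynomial.C (-s) * Polynomial.X + Polynomial.C t),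
    Polynomial.monic_X_pow_add (Polynomial.degree_linear_le.trans_lt (by norm_num)), ?_⟩
  simp [hs, ht]
  ring

/-- The primes over a given prime form one orbit. -/
theorem eq_or_eq_comap {P Q : Ideal R} (hP : P.IsPrime) (hQ : Q.IsPrime)
    (heq : P.comap (algebraMap S R) = Q.comap (algebraMap S R)) :
    P = Q ∨ P = Q.comap (lam : R →+* R) := by
  have key : ∀ {P Q : Ideal R}, P.IsPrime → Q.IsPrime → P.comap (algebraMap S R) ≤ Q.comap (algebraMap S R) →
      P ≤ Q ∨ P ≤ Q.comap (lam : R →+* R) := fun {P Q} hP hQ hle => by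
    refine Ideal.subset_union.1 fun x hx => ?_
    obtain ⟨s, hs⟩ := h.exists_mul x
    have : s ∈ P.comap (algebraMap S R) := by rw [Ideal.mem_comap, hs]; exact P.mul_mem_right _ hx
    have := hle this
    rw [Ideal.mem_comap, hs] at this
    exact hQ.mem_or_mem this
  have hcl : Q.comap (algebraMap S R) = (Q.comap (lam : R →+* R)).comap (algebraMap S R) := by
    rw [Ideal.comap_comap]
    congr 1
    exact RingHom.ext fun s => (lam.commutes s).symm
  have := h.isIntegral
  rcases key hP hQ heq.le with h1 | h1
  · refine Or.inl (le_antisymm h1 fun x hx => ?_)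
    by_contra hxP
    exact (Ideal.IsIntegral.comap_lt_comap (lt_of_le_of_ne h1 fun he => hxP (he ▸ hx))).ne heq
  · refine Or.inr (le_antisymm h1 fun x hx => ?_)
    by_contra hxP
    exact (Ideal.IsIntegral.comap_lt_comap (lt_of_le_of_ne h1 fun he => hxP (he ▸ hx))).ne (heq.trans hcl)

theorem comap_comap (P : Ideal R) : (P.comap (lam : R →+* R)).comap (lam : R →+* R) = P :=
  Ideal.ext fun x => by simp [Ideal.mem_comap, h.invol]

/-- An element moved at a prime is moved at all primes over the same prime of the base. -/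
theorem sub_notMem {P Q : Ideal R} (hP : P.IsPrime) (hQ : Q.IsPrime)
    (heq : P.comap (algebraMap S R) = Q.comap (algebraMap S R)) {r : R} (hr : lam r - r ∉ Q) :
    lam r - r ∉ P := by
  rcases h.eq_or_eq_comap hP hQ heq with rfl | rfl
  · exact hr
  · intro hmem
    rw [Ideal.mem_comap] at hmem
    simp only [RingHom.coe_coe, map_sub, h.invol] at hmem
    exact hr (by simpa using neg_mem hmem)

theorem baseChange (T : Type w) [CommRing T] [Algebra S T] (hT : Module.Flat S T ∨ IsUnit (2 : S)) :
    IsInvol (Algebra.TensorProduct.congr (AlgEquiv.refl : T ≃ₐ[T] T) lam) := by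
  set μ := Algebra.TensorProduct.congr (AlgEquiv.refl : T ≃ₐ[T] T) lam with hμdef
  have hμ : ∀ (t : T) (r : R), μ (t ⊗ₜ r) = t ⊗ₜ lam r := fun t r => rfl
  have hrange : ∀ z, (Algebra.linearMap S R).lTensor T z ∈ Set.range (algebraMap T (T ⊗[S] R)) := fun z => by
    induction z using TensorProduct.induction_on with
    | zero => exact ⟨0, by simp⟩
    | add p q hp hq => obtain ⟨a, ha⟩ := hp; obtain ⟨b, hb⟩ := hq; exact ⟨a + b, by rw [map_add, map_add, ha, hb]⟩
    | tmul c s =>
      refine ⟨s • c, ?_⟩
      show (s • c) ⊗ₜ[S] (1 : R) = c ⊗ₜ algebraMap S R s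
      rw [Algebra.algebraMap_eq_smul_one, TensorProduct.smul_tmul]
  have hdiff : ∀ z, (lam.toLinearMap - LinearMap.id : R →ₗ[S] R).lTensor T z = μ z - z := fun z => by
    induction z using TensorProduct.induction_on with
    | zero => simp
    | add p q hp hq => rw [map_add, map_add, hp, hq]; abel
    | tmul c r => rw [LinearMap.lTensor_tmul, LinearMap.sub_apply, TensorProduct.tmul_sub]; rfl
  have hone : ∀ c : T, algebraMap T (T ⊗[S] R) c = (Algebra.linearMap S R).lTensor T (c ⊗ₜ (1 : S)) := fun c => by
    simp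
  refine ⟨fun z => ?_, ?_, ?_⟩
  · induction z using TensorProduct.induction_on with
    | zero => simp
    | add p q hp hq => rw [map_add, map_add, hp, hq]
    | tmul c r => rw [hμ, hμ, h.invol]
  · rcases hT with hT | hT
    · intro a b hab
      rw [hone, hone] at hab
      have := Module.Flat.lTensor_preserves_injective_linearMap (M := T) (Algebra.linearMap S R) h.inj hab
      simpa using congrArg (TensorProduct.rid S T) this
    · obtain ⟨i, hi⟩ := hT.exists_left_inv
      choose tr htr using h.exists_add
      let π : R →ₗ[S] S :=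
        { toFun := fun r => i * tr r
          map_add' := fun a b => h.inj (by simp only [map_mul, map_add, htr]; ring)
          map_smul' := fun s a => h.inj (by
            simp only [RingHom.id_apply, smul_eq_mul, map_mul, htr, Algebra.smul_def, AlgEquiv.commutes]; ring) }
      intro a b hab
      have hπ1 : π 1 = 1 := by
        show i * tr 1 = 1
        rw [show tr 1 = 2 from h.inj (by rw [htr, map_one, map_ofNat]; norm_num), hi]
      have := congrArg (fun z => TensorProduct.rid S T (π.lTensor T z)) hab
      simpa [hπ1] using this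
  · intro z hz
    rcases hT with hT | hT
    · have hex : Function.Exact (Algebra.linearMap S R) ((lam.toLinearMap - LinearMap.id : R →ₗ[S] R)) := fun r => by
        rw [LinearMap.sub_apply, LinearMap.id_apply, sub_eq_zero]
        exact ⟨fun hh => h.fixed r hh, by rintro ⟨s, rfl⟩; exact lam.commutes s⟩
      obtain ⟨y, hy⟩ := (Module.Flat.lTensor_exact T hex z).1 (by rw [hdiff, hz, sub_self])
      exact hy ▸ hrange y
    · obtain ⟨i, hi⟩ := hT.exists_left_inv
      have hsum : ∀ z, z + μ z ∈ Set.range (algebraMap T (T ⊗[S] R)) := fun z => by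
        induction z using TensorProduct.induction_on with
        | zero => exact ⟨0, by simp⟩
        | add p q hp hq =>
          obtain ⟨a, ha⟩ := hp; obtain ⟨b, hb⟩ := hq
          exact ⟨a + b, by rw [map_add, map_add, ha, hb]; abel⟩
        | tmul c r =>
          obtain ⟨s, hs⟩ := h.exists_add r
          rw [hμ, ← TensorProduct.tmul_add, ← hs]
          exact hrange (c ⊗ₜ s)
      obtain ⟨c, hc⟩ := hsum z
      refine ⟨algebraMap S T i * c, ?_⟩
      rw [map_mul, hc, hz, ← two_mul, ← mul_assoc, ← IsScalarTower.algebraMap_apply,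
        ← map_ofNat (algebraMap S (T ⊗[S] R)) 2, ← map_mul, hi, map_one, one_mul]

theorem isQuadEtale_of_isUnit_sub {x : R} (hx : IsUnit (x - lam x)) : RInv.IsQuadEtale S R := by
  obtain ⟨s, hs⟩ := h.exists_add x
  obtain ⟨t, ht⟩ := h.exists_mul x
  obtain ⟨i, hi⟩ := hx.exists_right_inv
  have hlami : lam i = -i := by
    have h1 := congrArg lam hi
    rw [map_mul, map_sub, h.invol, map_one] at h1
    calc lam i = lam i * ((x - lam x) * i) := by rw [hi, mul_one]
      _ = -((lam x - x) * lam i * i) := by ring
      _ = -i := by rw [h1, one_mul]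
  have hdec : ∀ y, ∃ a b : S, y = algebraMap S R a + algebraMap S R b * x := fun y => by
    obtain ⟨b, hb⟩ := h.fixed ((y - lam y) * i) (by rw [map_mul, map_sub, h.invol, hlami]; ring)
    have hlb : lam y = y - algebraMap S R b * (x - lam x) := by
      rw [hb, show (y - lam y) * i * (x - lam x) = (y - lam y) * ((x - lam x) * i) by ring, hi]; ring
    obtain ⟨a, ha⟩ := h.fixed (y - algebraMap S R b * x) (by
      rw [map_sub, map_mul, AlgEquiv.commutes, hlb]; ring)
    exact ⟨a, b, by rw [ha, sub_add_cancel]⟩
  let e : (Fin 2 → S) →ₗ[S] R :=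
    { toFun := fun v => algebraMap S R (v 0) + algebraMap S R (v 1) * x
      map_add' := fun v w => by simp only [Pi.add_apply, map_add]; ring
      map_smul' := fun c v => by simp only [Pi.smul_apply, smul_eq_mul, map_mul, RingHom.id_apply, Algebra.smul_def]; ring }
  have hbij : Function.Bijective e := by
    refine ⟨(injective_iff_map_eq_zero e).2 fun v hv => ?_, fun y => ?_⟩
    · change algebraMap S R (v 0) + algebraMap S R (v 1) * x = 0 at hv
      have h1 := congrArg lam hv
      simp only [map_add, map_mul, AlgEquiv.commutes, map_zero] at h1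
      have h2 : algebraMap S R (v 1) * ((x - lam x) * i) = 0 := by linear_combination (hv - h1) * i
      rw [hi, mul_one, ← map_zero (algebraMap S R)] at h2
      have h3 := h.inj h2
      rw [h3, map_zero, zero_mul, add_zero, ← map_zero (algebraMap S R)] at hv
      funext j; fin_cases j
      · exact h.inj hv
      · exact h3
    · obtain ⟨a, b, rfl⟩ := hdec y
      exact ⟨![a, b], by simp [e]⟩
  let ε := LinearEquiv.ofBijective e hbij
  refine ⟨Module.Finite.equiv ε, Module.Projective.of_equiv ε, ?_, fun p => ?_⟩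
  · refine GrothLib.AzMod.formallyUnramified_of_generator x
      (Polynomial.X ^ 2 + (Polynomial.C (-s) * Polynomial.X + Polynomial.C t)) ?_ ?_ ?_
    · refine eq_top_iff.2 fun y _ => ?_
      obtain ⟨a, b, rfl⟩ := hdec y
      exact add_mem (Subalgebra.algebraMap_mem _ a) (mul_mem (Subalgebra.algebraMap_mem _ b) (Algebra.subset_adjoin rfl))
    · simp [hs, ht]; ring
    · have : Polynomial.aeval x (Polynomial.derivative (Polynomial.X ^ 2 + (Polynomial.C (-s) * Polynomial.X + Polynomial.C t))) = x - lam x := by
        simp [hs]; ring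
      rw [this]; exact hx
  · have := p.nontrivial
    rw [← Module.rankAtStalk_eq_of_equiv ε, Module.rankAtStalk_eq_finrank_of_free, Pi.natCast_apply, Nat.cast_id,
      Module.finrank_fin_fun]

/-! ### Local base -/

variable [IsLocalRing S]

theorem comap_eq_maximalIdeal (M : Ideal R) [M.IsMaximal] :
    M.comap (algebraMap S R) = IsLocalRing.maximalIdeal S := by
  have := h.isIntegral
  exact IsLocalRing.eq_maximalIdeal (Ideal.isMaximal_comap_of_isIntegral_of_isMaximal M)

theorem maximal_eq_or_eq {M M' : Ideal R} (hM : M.IsMaximal) (hM' : M'.IsMaximal) :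
    M = M' ∨ M = M'.comap (lam : R →+* R) :=
  h.eq_or_eq_comap hM.isPrime hM'.isPrime (by rw [h.comap_eq_maximalIdeal M, h.comap_eq_maximalIdeal M'])

omit [IsLocalRing S] in
theorem mem_jacobson_iff {x : R} : x ∈ Ring.jacobson R ↔ ∀ M : Ideal R, M.IsMaximal → x ∈ M := by
  rw [Ring.jacobson_eq_sInf_isMaximal]
  simp [Submodule.mem_sInf]

theorem isUnit_sub_of_notMem {r : R} (hr : lam r - r ∉ Ring.jacobson R) : IsUnit (r - lam r) := by
  rw [h.mem_jacobson_iff] at hr
  push Not at hr
  obtain ⟨M, hM, hrM⟩ := hr
  by_contra hu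
  obtain ⟨M', hM', hmem⟩ := exists_max_ideal_of_mem_nonunits hu
  refine h.sub_notMem hM'.isPrime hM.isPrime ?_ hrM (by simpa using neg_mem hmem)
  rw [h.comap_eq_maximalIdeal M', h.comap_eq_maximalIdeal M]

theorem nontrivial : Nontrivial R :=
  h.inj.nontrivial

theorem isLocalRing_of_forall (hall : ∀ r, lam r - r ∈ Ring.jacobson R) : IsLocalRing R := by
  have := h.nontrivial
  obtain ⟨M, hM⟩ := Ideal.exists_maximal R
  have hfix : M.comap (lam : R →+* R) = M := by
    refine Ideal.ext fun x => ?_
    have hd := (h.mem_jacobson_iff).1 (hall x) M hM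
    simp only [Ideal.mem_comap, RingHom.coe_coe]
    exact ⟨fun hx => by simpa using M.sub_mem hx hd, fun hx => by simpa using M.add_mem hd hx⟩
  exact IsLocalRing.of_unique_max_ideal ⟨M, hM, fun M' hM' => by
    rcases h.maximal_eq_or_eq hM' hM with h1 | h1
    · exact h1
    · rw [h1, hfix]⟩

end IsInvol

end GrothLib.RInvol
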