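import Groth.Agent.Lib.RInvol.Forms
import Mathlib.Data.Fintype.Card
import Mathlib.RingTheory.LocalRing.MaximalIdeal.Basic
import Mathlib.Algebra.Group.Even
import Mathlib.Algebra.Ring.Parity
import Mathlib.LinearAlgebra.Matrix.Adjugate

set_option autoImplicit false

/-!
# Diagonalisation of hermitian matrices, normal form of skew-hermitian matrices
-/

universe u v

open Matrix

namespace GrothLib.RInvol.Forms

attribute [-instance] Fintype.subtypeEq Fintype.subtypeEq'

variable {R : Type u} [CommRing R] {lam : R →+* R}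

theorem Diagonalizable.of_cong {ι : Type} [Fintype ι] [DecidableEq ι] {w w' : Matrix ι ι R}
    (h : Cong lam w w') (h' : Diagonalizable lam w') : Diagonalizable lam w := by
  obtain ⟨d, hd⟩ := h'
  exact ⟨d, h.trans hd⟩

theorem card_compl_singleton {ι : Type} [Fintype ι] [DecidableEq ι] (i : ι) :
    Fintype.card {x // ¬ x = i} = Fintype.card ι - 1 := by
  rw [Fintype.card_subtype_compl, Fintype.card_subtype_eq]

/-- Gram-Schmidt, when unit diagonal entries can always be produced. -/
theorem diagonalizable_of_gen (hlam : ∀ r, lam (lam r) = r) {ε : R} (hε : lam ε * ε = 1) {M : Ideal R}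
    (hM : IsPairMax lam M) (hgen : (∃ a, lam a - a ∉ M) ∨ 1 + ε ∉ M) :
    ∀ {ι : Type} [Fintype ι] [DecidableEq ι] (w : Matrix ι ι R), IsForm lam ε w → IsUnit w → Diagonalizable lam w := by
  suffices h : ∀ (n : ℕ) (ι : Type) [Fintype ι] [DecidableEq ι] (w : Matrix ι ι R), Fintype.card ι = n →
      IsForm lam ε w → IsUnit w → Diagonalizable lam w from fun {ι} _ _ w hw hu => h _ ι w rfl hw hu
  intro n
  induction n with
  | zero =>
    intro ι _ _ w hn _ _
    have := Fintype.card_eq_zero_iff.1 hn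
    exact ⟨fun _ => 0, 1, isUnit_one, by ext i; exact isEmptyElim i⟩
  | succ n ih =>
    intro ι _ _ w hn hw hu
    have : Nonempty ι := Fintype.card_pos_iff.1 (by omega)
    obtain ⟨w', hc, i, hi⟩ := exists_unit_diag hlam hε hM hgen w hw hu
    refine .of_cong hc (diagonalizable_of_split hlam hε w' (hc.isForm hlam hw) (hc.isUnit hu) i hi fun d hd hdu _ => ?_)
    exact ih {x // ¬ x = i} d (by rw [card_compl_singleton, hn, Nat.add_sub_cancel]) hd hdu

/-- The determinant of an off-diagonal pair. -/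
theorem pair_isUnit [IsLocalRing R] {a b c d : R} (ha : a ∈ IsLocalRing.maximalIdeal R) (hb : IsUnit b)
    (hc : IsUnit c) : IsUnit (a * d - b * c) := by
  rw [← IsLocalRing.notMem_maximalIdeal]
  intro h
  have h' := (IsLocalRing.maximalIdeal R).sub_mem ((IsLocalRing.maximalIdeal R).mul_mem_right d ha) h
  rw [sub_sub_cancel] at h'
  exact (IsLocalRing.maximalIdeal.isMaximal R).ne_top (Ideal.eq_top_of_isUnit_mem _ h' (hb.mul hc))

/-- An invertible pair block. -/
theorem exists_pair_inverse {ι : Type} [Fintype ι] [DecidableEq ι] (w : Matrix ι ι R) {i j : ι} (hij : i ≠ j)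
    (hu : IsUnit (w i i * w j j - w i j * w j i)) :
    ∃ ai : Matrix {x // x = i ∨ x = j} {x // x = i ∨ x = j} R,
      (w.submatrix Subtype.val Subtype.val : Matrix {x // x = i ∨ x = j} {x // x = i ∨ x = j} R) * ai = 1 ∧
      ai * (w.submatrix Subtype.val Subtype.val : Matrix {x // x = i ∨ x = j} {x // x = i ∨ x = j} R) = 1 := by
  set a : Matrix {x // x = i ∨ x = j} {x // x = i ∨ x = j} R := w.submatrix Subtype.val Subtype.val with hadef
  let f : Fin 2 ≃ {x // x = i ∨ x = j} := Equiv.ofBijective ![⟨i, Or.inl rfl⟩, ⟨j, Or.inr rfl⟩] ⟨fun p q h => by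
    fin_cases p <;> fin_cases q <;> simp_all [Subtype.ext_iff, Ne.symm hij],
    fun x => by rcases x with ⟨x, rfl | rfl⟩; exacts [⟨0, rfl⟩, ⟨1, rfl⟩]⟩
  have hdet : a.det = w i i * w j j - w i j * w j i := by
    rw [← Matrix.det_submatrix_equiv_self f, Matrix.det_fin_two]
    rfl
  have hau : IsUnit a.det := hdet ▸ hu
  exact ⟨a⁻¹, Matrix.mul_nonsing_inv a hau, Matrix.nonsing_inv_mul a hau⟩

theorem card_compl_pair {ι : Type} [Fintype ι] [DecidableEq ι] {i j : ι} (hij : i ≠ j) :
    Fintype.card {x // ¬ (x = i ∨ x = j)} = Fintype.card ι - 2 := by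
  rw [Fintype.card_subtype_compl, Fintype.card_subtype]
  congr 1
  rw [show (Finset.univ.filter fun x => x = i ∨ x = j) = {i, j} from by ext x; simp, Finset.card_pair hij]

/-- Splitting with a congruence on the rest. -/
theorem exists_cong_of_split_pred {ι : Type} [Fintype ι] [DecidableEq ι] {w : Matrix ι ι R} (p : ι → Prop)
    [DecidablePred p] {a : Matrix {x // p x} {x // p x} R} {d d' : Matrix {x // ¬ p x} {x // ¬ p x} R}
    (hc : Cong lam (Matrix.reindex (Equiv.sumCompl p).symm (Equiv.sumCompl p).symm w) (Matrix.fromBlocks a 0 0 d))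
    (hd : Cong lam d d') :
    ∃ w', Cong lam w w' ∧ ∀ (k : ι) (hk : ¬ p k), w' k k = d' ⟨k, hk⟩ ⟨k, hk⟩ := by
  set e := (Equiv.sumCompl p).symm
  refine ⟨Matrix.reindex e.symm e.symm (Matrix.fromBlocks a 0 0 d'), Cong.of_reindex e ?_, fun k hk => ?_⟩
  · rw [show Matrix.reindex e e (Matrix.reindex e.symm e.symm (Matrix.fromBlocks a 0 0 d')) = Matrix.fromBlocks a 0 0 d' from by simp]
    exact hc.trans ((Cong.refl a).fromBlocks hd)
  · simp [e, Equiv.sumCompl_symm_apply_of_neg hk]

/-- Odd-dimensional hermitian forms over a local ring are diagonalisable. -/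
theorem diagonalizable_of_odd [IsLocalRing R] (hlam : ∀ r, lam (lam r) = r) {ε : R} (hε : lam ε * ε = 1)
    (htriv : ∀ a, lam a - a ∈ IsLocalRing.maximalIdeal R) (hε1 : 1 + ε ∈ IsLocalRing.maximalIdeal R) :
    ∀ {ι : Type} [Fintype ι] [DecidableEq ι] (w : Matrix ι ι R), Odd (Fintype.card ι) → IsForm lam ε w →
      IsUnit w → Diagonalizable lam w := by
  suffices h : ∀ (n : ℕ) (ι : Type) [Fintype ι] [DecidableEq ι] (w : Matrix ι ι R), Fintype.card ι = n →
      Odd n → IsForm lam ε w → IsUnit w → Diagonalizable lam w from fun {ι} _ _ w ho hw hu => h _ ι w rfl ho hw hu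
  set M := IsLocalRing.maximalIdeal R
  intro n
  induction n using Nat.strong_induction_on with
  | _ n ih =>
  intro ι _ _ w hn ho hw hu
  have hkey : ∀ (w : Matrix ι ι R), IsForm lam ε w → IsUnit w → (∃ i, IsUnit (w i i)) → Diagonalizable lam w := by
    rintro w hw hu ⟨i, hi⟩
    have hinner : ∀ (w : Matrix ι ι R), IsForm lam ε w → IsUnit w → ∀ (hi : IsUnit (w i i)),
        (∃ k, k ≠ i ∧ IsUnit (w k k - w k i * ↑(hi.unit⁻¹) * w i k)) → Diagonalizable lam w := by
      rintro w hw hu hi ⟨k, hki, hk⟩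
      refine diagonalizable_of_split hlam hε w hw hu i hi fun d hd hdu hdval => ?_
      have hk' : IsUnit (d ⟨k, hki⟩ ⟨k, hki⟩) := by rw [hdval]; exact hk
      refine diagonalizable_of_split hlam hε d hd hdu ⟨k, hki⟩ hk' fun d' hd' hdu' _ => ?_
      have hn3 : 2 ≤ n := by
        rw [← hn, ← Finset.card_pair hki]
        exact Finset.card_le_univ _
      refine ih (n - 2) (by omega) _ d' (by rw [card_compl_singleton, card_compl_singleton, hn]; omega) ?_ hd' hdu'
      obtain ⟨m, hm⟩ := ho
      exact ⟨m - 1, by omega⟩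
    rcases Nat.lt_or_ge n 2 with hlt | hge
    · refine diagonalizable_of_split hlam hε w hw hu i hi fun d _ _ _ => ?_
      have : IsEmpty {x // ¬ x = i} := Fintype.card_eq_zero_iff.1 (by rw [card_compl_singleton, hn]; omega)
      exact ⟨fun _ => 0, 1, isUnit_one, by ext a; exact isEmptyElim a⟩
    by_cases hex : ∃ k, k ≠ i ∧ IsUnit (w k k - w k i * ↑(hi.unit⁻¹) * w i k)
    · exact hinner w hw hu hi hex
    push Not at hex
    -- the complement is alternating modulo the maximal ideal: change the chosen vector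
    have hcu : ∀ k, k ≠ i → w k k - w k i * ↑(hi.unit⁻¹) * w i k ∈ M := fun k hk => hex k hk
    have hgood : ∃ (w2 : Matrix ι ι R) (hi2 : IsUnit (w2 i i)), Cong lam w w2 ∧
        ∃ k, k ≠ i ∧ IsUnit (w2 k k - w2 k i * ↑(hi2.unit⁻¹) * w2 i k) := by
      -- first clear row and column `i`
      have hclear : ∀ k, k ≠ i → ∃ m, m ≠ i ∧ w k m - w k i * ↑(hi.unit⁻¹) * w i m ∉ M := by
        intro k hk
        by_contra hall
        push Not at hall
        obtain ⟨N, hN, hN'⟩ := isUnit_iff_exists.1 hu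
        let r : ι → R := fun m => w k m - w k i * ↑(hi.unit⁻¹) * w i m
        have hri : r i = 0 := by
          show w k i - w k i * ↑(hi.unit⁻¹) * w i i = 0
          rw [mul_assoc, IsUnit.val_inv_mul, mul_one, sub_self]
        have hsum : ∑ m, r m * N m k = 1 := by
          have h1 := congrFun (congrFun hN k) k
          have h2 := congrFun (congrFun hN i) k
          rw [Matrix.one_apply_eq, Matrix.mul_apply] at h1
          rw [Matrix.one_apply_ne (Ne.symm hk), Matrix.mul_apply] at h2
          simp only [r, sub_mul, Finset.sum_sub_distrib, mul_assoc, ← Finset.mul_sum, h1, h2, mul_zero, sub_zero]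
        refine (IsLocalRing.maximalIdeal.isMaximal R).ne_top ((Ideal.eq_top_iff_one M).2 (hsum ▸ M.sum_mem fun m _ => ?_))
        refine M.mul_mem_right _ ?_
        by_cases hm : m = i
        · subst hm; rw [hri]; exact M.zero_mem
        · exact hall m hm
      obtain ⟨k, hk⟩ : ∃ k, k ≠ i := Fintype.exists_ne_of_one_lt_card (by omega) i
      obtain ⟨j, hji, hj⟩ := hclear k hk
      have hkj : k ≠ j := fun h => hj (h ▸ hcu k hk)
      -- congruent form with cleared row and column
      have hui := hi.unit⁻¹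
      have : Unique {x // x = i} := ⟨⟨⟨i, rfl⟩⟩, fun x => Subtype.ext x.2⟩
      obtain ⟨-, -, hc⟩ := split_pred hlam hε w hw hu (· = i) (Matrix.diagonal fun _ => ↑(hi.unit⁻¹))
        (by
          ext a b; rw [Subsingleton.elim b a, Matrix.mul_diagonal, Matrix.one_apply_eq, Matrix.submatrix_apply, a.2]
          simp)
        (by
          ext a b; rw [Subsingleton.elim b a, Matrix.diagonal_mul, Matrix.one_apply_eq, Matrix.submatrix_apply, a.2]
          simp)
      set e := (Equiv.sumCompl fun x => x = i).symm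
      obtain ⟨w1, hw1c, hw1i, hw1row, hw1col, hw1rest⟩ : ∃ w1, Cong lam w w1 ∧ w1 i i = w i i ∧
          (∀ a, a ≠ i → w1 i a = 0) ∧ (∀ a, a ≠ i → w1 a i = 0) ∧
          ∀ a b, a ≠ i → b ≠ i → w1 a b = w a b - w a i * ↑(hi.unit⁻¹) * w i b := by
        have hei : e i = Sum.inl ⟨i, rfl⟩ := Equiv.sumCompl_symm_apply_of_pos (p := fun x => x = i) rfl
        have hea : ∀ a (ha : a ≠ i), e a = Sum.inr ⟨a, ha⟩ := fun a ha =>
          Equiv.sumCompl_symm_apply_of_neg (p := fun x => x = i) ha
        refine ⟨_, Cong.of_reindex e (w' := Matrix.reindex e.symm e.symm _) (hc.trans (by simpa using Cong.refl _)),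
          ?_, fun a ha => ?_, fun a ha => ?_, fun a b ha hb => ?_⟩
        · simp [hei]
        · simp [hei, hea a ha]
        · simp [hei, hea a ha]
        · simp [hea a ha, hea b hb, Matrix.mul_apply, show ((default : {x // x = i}) : ι) = i from (default : {x // x = i}).2]
      obtain ⟨w2, hw2c, hw2i, hw2col, hw2row, hw2rest⟩ := transvection_congr (lam := lam) w1 (Ne.symm hji) 1
      have hval : ∀ a b, a ≠ i → b ≠ i → w1 a b = w a b - w a i * ↑(hi.unit⁻¹) * w i b := hw1rest
      have hjj : w1 j j ∈ M := by rw [hval j j hji hji]; exact hcu j hji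
      have hi2 : IsUnit (w2 i i) := by
        rw [← IsLocalRing.notMem_maximalIdeal]
        intro hmem
        rw [hw2i, hw1row j hji, hw1col j hji, hw1i, map_one] at hmem
        simp only [one_mul, mul_one, zero_add, add_zero] at hmem
        have := M.sub_mem hmem hjj
        rw [add_sub_cancel_right] at this
        exact this hi
      refine ⟨w2, hi2, hw1c.trans hw2c, k, hk, ?_⟩
      rw [← IsLocalRing.notMem_maximalIdeal, hw2rest k k hk hk, hw2col k hk, hw2row k hk, hw1col k hk, hw1row k hk,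
        map_one]
      simp only [zero_add, mul_one, one_mul]
      intro hmem
      have hkk : w1 k k ∈ M := by rw [hval k k hk hk]; exact hcu k hk
      have h3 := M.sub_mem hkk hmem
      rw [sub_sub_cancel] at h3
      have hu1 : IsUnit (w1 k j) := by rw [hval k j hk hji]; exact IsLocalRing.notMem_maximalIdeal.1 hj
      have hu2 : IsUnit (w1 j k) := by
        rw [← (hw1c.isForm hlam hw).apply j k]
        exact (IsUnit.of_mul_eq_one_right _ hε).mul (hu1.map lam)
      exact (IsLocalRing.maximalIdeal.isMaximal R).ne_top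
        (Ideal.eq_top_of_isUnit_mem _ h3 ((hu1.mul (hi2.unit⁻¹).isUnit).mul hu2))
    obtain ⟨w2, hi2, hc2, hk2⟩ := hgood
    exact .of_cong hc2 (hinner w2 (hc2.isForm hlam hw) (hc2.isUnit hu) hi2 hk2)
  by_cases hex : ∃ i, IsUnit (w i i)
  · exact hkey w hw hu hex
  push Not at hex
  have hdiag : ∀ i, w i i ∈ M := fun i => hex i
  have : Nonempty ι := Fintype.card_pos_iff.1 (by obtain ⟨m, hm⟩ := ho; omega)
  let i := Classical.arbitrary ι
  obtain ⟨j, hj⟩ := exists_row_notMem (IsLocalRing.maximalIdeal.isMaximal R) w hu i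
  have hij : i ≠ j := fun h => hj (h ▸ hdiag i)
  have hji : IsUnit (w j i) := by
    rw [← hw.apply j i]
    exact (IsUnit.of_mul_eq_one_right _ hε).mul ((IsLocalRing.notMem_maximalIdeal.1 hj).map lam)
  obtain ⟨ai, h1, h2⟩ := exists_pair_inverse w hij (pair_isUnit (hdiag i) (IsLocalRing.notMem_maximalIdeal.1 hj) hji)
  obtain ⟨hd, hdu, hc⟩ := split_pred hlam hε w hw hu (fun x => x = i ∨ x = j) ai h1 h2
  have hn2 : n ≠ 2 := fun h => absurd (h ▸ ho) (by decide)
  have hge : 2 ≤ n := by rw [← hn, ← Finset.card_pair hij]; exact Finset.card_le_univ _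
  obtain ⟨dd, hdd⟩ := ih (n - 2) (by omega) _ _ (by rw [card_compl_pair hij, hn])
    (by obtain ⟨m, hm⟩ := ho; exact ⟨m - 1, by omega⟩) hd hdu
  obtain ⟨w', hww', hw'k⟩ := exists_cong_of_split_pred _ hc hdd
  obtain ⟨k, hk⟩ : ∃ k, ¬ (k = i ∨ k = j) := by
    have hpos : 0 < Fintype.card {x // ¬ (x = i ∨ x = j)} := by rw [card_compl_pair hij, hn]; omega
    obtain ⟨⟨k, hk⟩⟩ := Fintype.card_pos_iff.1 hpos
    exact ⟨k, hk⟩
  refine .of_cong hww' (hkey w' (hww'.isForm hlam hw) (hww'.isUnit hu) ⟨k, ?_⟩)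
  rw [hw'k k hk, Matrix.diagonal_apply_eq]
  exact (Matrix.isUnit_diagonal.1 (hdd.isUnit hdu)).map (Pi.evalMonoidHom _ (⟨k, hk⟩ : {x // ¬ (x = i ∨ x = j)}))

end GrothLib.RInvol.Forms
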