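import Groth.Agent.Lib.RInvol.Diag
import Mathlib.Data.Matrix.Block
import Mathlib.Tactic.LinearCombination
import Mathlib.Tactic.FieldSimp
import Mathlib.Algebra.Group.Pi.Units

set_option autoImplicit false

/-!
# Normal form of skew-hermitian matrices
-/

universe u v

open Matrix

namespace GrothLib.RInvol.Forms

attribute [-instance] Fintype.subtypeEq Fintype.subtypeEq'

variable {R : Type u} [CommRing R] {lam : R →+* R}

/-- The block equivalence adding one pair. -/
def consPairEquiv (m : ℕ) : Fin 2 ⊕ Fin 2 × Fin m ≃ Fin 2 × Fin (m + 1) where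
  toFun := Sum.elim (fun a => (a, 0)) fun p => (p.1, p.2.succ)
  invFun p := Fin.cases (Sum.inl p.1) (fun k => Sum.inr (p.1, k)) p.2
  left_inv x := by rcases x with a | ⟨a, k⟩ <;> simp
  right_inv p := by
    obtain ⟨a, k⟩ := p
    induction k using Fin.cases <;> simp

theorem reindex_consPair {m : ℕ} (B₀ : Matrix (Fin 2) (Fin 2) R) (B : Fin m → Matrix (Fin 2) (Fin 2) R) :
    Matrix.reindex (consPairEquiv m) (consPairEquiv m) (Matrix.fromBlocks B₀ 0 0 (Matrix.blockDiagonal B)) =
      Matrix.blockDiagonal (Fin.cons B₀ B : Fin (m + 1) → Matrix (Fin 2) (Fin 2) R) := by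
  ext ⟨a, k⟩ ⟨b, l⟩
  induction k using Fin.cases <;> induction l using Fin.cases <;>
    simp [consPairEquiv, Matrix.blockDiagonal_apply, Fin.succ_ne_zero, eq_comm]

theorem exists_blocks [IsLocalRing R] (hlam : ∀ r, lam (lam r) = r) {ε : R} (hε : lam ε * ε = 1)
    (h2 : IsUnit (2 : R)) (hε1 : 1 + ε ∈ IsLocalRing.maximalIdeal R)
    (htriv : ∀ a, lam a - a ∈ IsLocalRing.maximalIdeal R) :
    ∀ {ι : Type} [Fintype ι] [DecidableEq ι] (w : Matrix ι ι R), IsForm lam ε w → IsUnit w →
      ∃ (m : ℕ) (e : ι ≃ Fin 2 × Fin m) (B : Fin m → Matrix (Fin 2) (Fin 2) R),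
        (∀ k, B k 0 0 ∈ IsLocalRing.maximalIdeal R ∧ B k 1 1 ∈ IsLocalRing.maximalIdeal R ∧ B k 0 1 = 1) ∧
        Cong lam (Matrix.reindex e e w) (Matrix.blockDiagonal B) := by
  suffices h : ∀ (n : ℕ) (ι : Type) [Fintype ι] [DecidableEq ι] (w : Matrix ι ι R), Fintype.card ι = n →
      IsForm lam ε w → IsUnit w →
      ∃ (m : ℕ) (e : ι ≃ Fin 2 × Fin m) (B : Fin m → Matrix (Fin 2) (Fin 2) R),
        (∀ k, B k 0 0 ∈ IsLocalRing.maximalIdeal R ∧ B k 1 1 ∈ IsLocalRing.maximalIdeal R ∧ B k 0 1 = 1) ∧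
        Cong lam (Matrix.reindex e e w) (Matrix.blockDiagonal B) from fun {ι} _ _ w hw hu => h _ ι w rfl hw hu
  set M := IsLocalRing.maximalIdeal R
  have hMp : M.IsPrime := (IsLocalRing.maximalIdeal.isMaximal R).isPrime
  have hdiag : ∀ {ι : Type} [Fintype ι] [DecidableEq ι] (w : Matrix ι ι R), IsForm lam ε w → ∀ i, w i i ∈ M := by
    intro ι _ _ w hw i
    have h1 := M.mul_mem_left ε (htriv (w i i))
    rw [mul_sub, hw.apply i i] at h1
    have h3 : (2 : R) * w i i ∈ M := by
      have := M.add_mem h1 (M.mul_mem_right (w i i) hε1)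
      convert this using 1; ring
    exact (hMp.mem_or_mem h3).resolve_left fun h => hMp.ne_top (Ideal.eq_top_of_isUnit_mem _ h h2)
  intro n
  induction n using Nat.strong_induction_on with
  | _ n ih =>
  intro ι _ _ w hn hw hu
  rcases isEmpty_or_nonempty ι with hι | hι
  · exact ⟨0, Equiv.equivOfIsEmpty _ _, finZeroElim, fun k => k.elim0, 1, isUnit_one, by ext p; exact p.2.elim0⟩
  let i := Classical.arbitrary ι
  obtain ⟨j, hj⟩ := exists_row_notMem (IsLocalRing.maximalIdeal.isMaximal R) w hu i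
  have hij : i ≠ j := fun h => hj (h ▸ hdiag w hw i)
  have hju : IsUnit (w i j) := IsLocalRing.notMem_maximalIdeal.1 hj
  -- normalise the pair
  obtain ⟨d, hd⟩ := hju.exists_right_inv
  let D : Matrix ι ι R := Matrix.diagonal (Function.update (fun _ => 1) j (lam d))
  have hDu : IsUnit D := Matrix.isUnit_diagonal.2 (Pi.isUnit_iff.2 fun x => by
    rcases eq_or_ne x j with rfl | hx
    · rw [Function.update_self]; exact (IsUnit.of_mul_eq_one_right _ hd).map lam
    · rw [Function.update_of_ne hx]; exact isUnit_one)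
  have hstD : st lam D = Matrix.diagonal (Function.update (fun _ => 1) j d) := by
    ext a b
    rcases eq_or_ne a b with rfl | hab
    · rcases eq_or_ne a j with rfl | haj
      · simp [D, hlam]
      · simp [D, haj]
    · simp [D, hab, Ne.symm hab]
  let w1 := D * w * st lam D
  have hc1 : Cong lam w w1 := ⟨D, hDu, rfl⟩
  have hw1 := hc1.isForm hlam hw
  have hu1 := hc1.isUnit hu
  have hw1ij : w1 i j = 1 := by
    simp [w1, hstD, D, Matrix.mul_diagonal, Matrix.diagonal_mul, hij, hd]
  have hw1ji : IsUnit (w1 j i) := by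
    rw [← hw1.apply j i, hw1ij, map_one, mul_one]
    exact IsUnit.of_mul_eq_one_right _ hε
  obtain ⟨ai, h1, h1'⟩ := exists_pair_inverse w1 hij (pair_isUnit (hdiag w1 hw1 i) (hw1ij ▸ isUnit_one) hw1ji)
  obtain ⟨hd', hdu', hc⟩ := split_pred hlam hε w1 hw1 hu1 (fun x => x = i ∨ x = j) ai h1 h1'
  have hge : 2 ≤ n := by rw [← hn, ← Finset.card_pair hij]; exact Finset.card_le_univ _
  obtain ⟨m, e', B, hB, hcB⟩ := ih (n - 2) (by omega) _ _ (by rw [card_compl_pair hij, hn]) hd' hdu'
  let f : Fin 2 ≃ {x // x = i ∨ x = j} := Equiv.ofBijective ![⟨i, Or.inl rfl⟩, ⟨j, Or.inr rfl⟩] ⟨fun p q h => by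
    fin_cases p <;> fin_cases q <;> simp_all [Subtype.ext_iff, Ne.symm hij],
    fun x => by rcases x with ⟨x, rfl | rfl⟩; exacts [⟨0, rfl⟩, ⟨1, rfl⟩]⟩
  let a : Matrix (Fin 2) (Fin 2) R :=
    Matrix.reindex f.symm f.symm (w1.submatrix Subtype.val Subtype.val : Matrix {x // x = i ∨ x = j} {x // x = i ∨ x = j} R)
  let e := ((Equiv.sumCompl fun x => x = i ∨ x = j).symm.trans (Equiv.sumCongr f.symm e')).trans (consPairEquiv m)
  refine ⟨m + 1, e, (Fin.cons a B : Fin (m + 1) → Matrix (Fin 2) (Fin 2) R), fun k => ?_, ?_⟩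
  · induction k using Fin.cases with
    | zero =>
      refine ⟨?_, ?_, ?_⟩ <;> simp only [Fin.cons_zero, a, Matrix.reindex_apply, Equiv.symm_symm, Matrix.submatrix_apply]
      · exact hdiag w1 hw1 i
      · exact hdiag w1 hw1 j
      · exact hw1ij
    | succ k => simpa using hB k
  · rw [← reindex_consPair]
    refine ((hc1.reindex e).trans ?_)
    rw [show Matrix.reindex e e w1 = Matrix.reindex (consPairEquiv m) (consPairEquiv m)
        (Matrix.reindex (Equiv.sumCongr f.symm e') (Equiv.sumCongr f.symm e')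
          (Matrix.reindex (Equiv.sumCompl fun x => x = i ∨ x = j).symm (Equiv.sumCompl fun x => x = i ∨ x = j).symm w1)) from rfl]
    refine Cong.reindex _ ((hc.reindex _).trans ?_)
    have hblock : ∀ (X : Matrix {x // x = i ∨ x = j} {x // x = i ∨ x = j} R) Y,
        Matrix.reindex (Equiv.sumCongr f.symm e') (Equiv.sumCongr f.symm e') (Matrix.fromBlocks X 0 0 Y) =
          Matrix.fromBlocks (Matrix.reindex f.symm f.symm X) 0 0 (Matrix.reindex e' e' Y) := fun X Y => by
      ext (x | x) (y | y) <;> rfl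
    rw [hblock]
    exact (Cong.refl a).fromBlocks hcB

/-- The standard alternating `2 × 2` matrix. -/
def alt2 (R : Type u) [CommRing R] : Matrix (Fin 2) (Fin 2) R := !![0, 1; -1, 0]

/-- An explicit congruence with the standard alternating matrix. -/
theorem cong_alt2 {a b y : R} (ha : lam a = -a) (hb : lam b = -b) (hy : lam y = y) (hyy : y * y = 1 + a * b)
    (h2 : IsUnit (2 : R)) (hyu : IsUnit y) (hy1 : IsUnit (1 + y)) :
    Cong lam (!![a, 1; -1, b] : Matrix (Fin 2) (Fin 2) R) (alt2 R) := by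
  obtain ⟨h, hh⟩ := h2.exists_left_inv
  obtain ⟨yi, hyi⟩ := hyu.exists_left_inv
  obtain ⟨d, hd⟩ := hy1.exists_left_inv
  have hlh : lam h = h := by
    have h' := congrArg lam hh
    rw [map_mul, map_one, map_ofNat] at h'
    linear_combination h * h' - lam h * hh
  have hlyi : lam yi = yi := by
    have h' := congrArg lam hyi
    rw [map_mul, map_one, hy] at h'
    linear_combination yi * h' - lam yi * hyi
  have hld : lam d = d := by
    have h' := congrArg lam hd
    rw [map_mul, map_add, map_one, hy] at h'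
    linear_combination d * h' - lam d * hd
  -- `d * a` makes the first vector isotropic
  have hiso : a - 2 * (d * a) - (d * a) * (d * a) * b = 0 := by
    have : 1 - 2 * d - d * d * (a * b) = 0 := by linear_combination (-1 + d * (y - 1)) * (-1 : R) * 0 + (d * d) * hyy + (-1 - d * (y - 1)) * hd
    linear_combination a * this
  have hpair : 1 + d * a * b = y := by linear_combination (y - 1) * hd + (-d) * hyy
  refine ⟨!![yi, d * a * yi; -(b * h) * yi, 1 - b * h * (d * a) * yi], ?_, ?_⟩
  · rw [Matrix.isUnit_iff_isUnit_det, Matrix.det_fin_two_of]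
    convert IsUnit.of_mul_eq_one y hyi using 1
    ring
  · ext p q
    fin_cases p <;> fin_cases q <;>
      simp [alt2, Matrix.mul_apply, Fin.sum_univ_two, ha, hb, hlh, hlyi, hld]
    · linear_combination (yi * yi) * hiso
    · linear_combination ((b * h) * (yi * yi)) * hiso + yi * hpair + hyi
    · linear_combination (-(b * h)) * (yi * yi) * hiso - yi * hpair - hyi
    · linear_combination (-(b * h) * (b * h)) * (yi * yi) * hiso + (-2 * (b * h) * yi) * hpair + (-2 * (b * h)) * hyi - b * hh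

end GrothLib.RInvol.Forms
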